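import Groth.Agent.SHDescLib.Tools
import Mathlib.RingTheory.Nilpotent.GeometricallyReduced
import Mathlib.LinearAlgebra.TensorProduct.RightExactness
import Mathlib.RingTheory.TensorProduct.Maps
import Mathlib.RingTheory.Artinian.Module
import Mathlib.RingTheory.SimpleModule.Basic
import Mathlib.RingTheory.TensorProduct.Finite
import Mathlib.FieldTheory.SeparableClosure

/-! Unramified valuations stay unramified after base change along a map of discrete valuation rings. -/

set_option autoImplicit false
universe u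

noncomputable section

namespace SolSepLib

open IsLocalRing
open scoped TensorProduct

/-- Residue fields of valuations of finite extensions are finite. -/
theorem finite_residue {A K K₁ : Type u} [CommRing A] [IsDomain A] [IsDiscreteValuationRing A] [Field K] [Algebra A K]
    [IsFractionRing A K] [Field K₁] [Algebra K K₁] [FiniteDimensional K K₁] (V : ValuationSubring K₁) [Algebra A V]
    [IsLocalHom (algebraMap A V)] (hV : ∀ a : A, (algebraMap A V a : K₁) = algebraMap K K₁ (algebraMap A K a)) :
    Module.Finite (ResidueField A) (ResidueField V) := by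
  classical
  obtain ⟨π, hπ⟩ := IsDiscreteValuationRing.exists_irreducible A
  refine Module.rank_lt_aleph0_iff.1 (lt_of_le_of_lt (rank_le (n := Module.finrank K K₁) fun s hs => ?_) Cardinal.natCast_lt_aleph0)
  choose t ht using fun r : s => residue_surjective (r : ResidueField V)
  have hli : LinearIndependent K (fun r : s => ((t r : V) : K₁)) := by
    refine Fintype.linearIndependent_iff.2 fun c hc => ?_
    by_contra hne
    push Not at hne
    obtain ⟨r₀, hr₀⟩ := hne
    obtain ⟨⟨d, hd⟩, hden⟩ := IsLocalization.exist_integer_multiples_of_finite (nonZeroDivisors A) c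
    choose a ha using hden
    have hd0 : algebraMap A K d ≠ 0 := (map_ne_zero_iff _ (IsFractionRing.injective A K)).2 (nonZeroDivisors.ne_zero hd)
    have ha0 : a r₀ ≠ 0 := fun h0 => hr₀ (by
      have := ha r₀
      rw [h0, map_zero, Algebra.smul_def, eq_comm, mul_eq_zero] at this
      exact this.resolve_left hd0)
    -- divide by the common power of the uniformiser
    have hex : ∃ n, ¬ ∀ r, π ^ n ∣ a r := by
      obtain ⟨n, hn⟩ := FiniteMultiplicity.of_prime_left hπ.prime ha0
      exact ⟨n + 1, fun hall => hn (hall r₀)⟩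
    obtain ⟨n, hn⟩ : ∃ n, Nat.find hex = n + 1 := Nat.exists_eq_succ_of_ne_zero fun h0 => by
      have := Nat.find_spec hex
      rw [h0] at this
      exact this fun r => by simp
    have hdiv : ∀ r, π ^ n ∣ a r := not_not.1 (Nat.find_min hex (show n < Nat.find hex by omega))
    choose b hb using hdiv
    have hsum : ∑ r, algebraMap A V (b r) * t r = 0 := by
      have h1 : algebraMap K K₁ (algebraMap A K d) * ∑ r, c r • ((t r : V) : K₁) = 0 := by rw [hc, mul_zero]
      rw [Finset.mul_sum] at h1
      have h2 : algebraMap K K₁ (algebraMap A K π) ^ n * ((∑ r, algebraMap A V (b r) * t r : V) : K₁) = 0 := by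
        rw [← h1, AddSubmonoidClass.coe_finsetSum, Finset.mul_sum]
        refine Finset.sum_congr rfl fun r _ => ?_
        have := ha r
        rw [hb r, Algebra.smul_def] at this
        rw [Algebra.smul_def, ← mul_assoc (algebraMap K K₁ _), ← map_mul (algebraMap K K₁), MulMemClass.coe_mul, hV,
          ← mul_assoc, ← map_pow, ← map_mul, ← map_pow, ← map_mul (algebraMap A K), this]
      have hπ0 : algebraMap K K₁ (algebraMap A K π) ^ n ≠ 0 := pow_ne_zero _ ((_root_.map_ne_zero _).2
        ((map_ne_zero_iff _ (IsFractionRing.injective A K)).2 hπ.ne_zero))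
      exact Subtype.ext ((mul_eq_zero.1 h2).resolve_left hπ0)
    have hres := congrArg (residue V) hsum
    rw [map_sum, map_zero] at hres
    have h3 := Fintype.linearIndependent_iff.1 hs (fun r => residue A (b r)) (by
      rw [← hres]
      refine Finset.sum_congr rfl fun r _ => ?_
      rw [map_mul, ht, Algebra.smul_def]
      rfl)
    refine Nat.find_spec hex fun r => ?_
    rw [hn, pow_succ, hb r]
    refine mul_dvd_mul_left _ ?_
    rw [← Ideal.mem_span_singleton, ← hπ.maximalIdeal_eq, ← residue_eq_zero_iff]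
    exact h3 r
  simpa using hli.fintype_card_le_finrank

variable {A B K L K₁ M : Type u} [CommRing A] [IsDomain A] [IsDiscreteValuationRing A]
  [CommRing B] [IsDomain B] [IsDiscreteValuationRing B] [Algebra A B] [IsLocalHom (algebraMap A B)]
  [Field K] [Field L] [Algebra A K] [IsFractionRing A K] [Algebra B L] [IsFractionRing B L]
  [Algebra K L] [Field K₁] [Algebra K K₁] [FiniteDimensional K K₁]
  [Field M] [Algebra K M] [Algebra L M] [Algebra K₁ M] [IsScalarTower K L M] [IsScalarTower K K₁ M]

set_option maxHeartbeats 1600000 in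
theorem unramified_baseChange (hinj : Function.Injective (algebraMap A B))
    (hA : ∀ a : A, algebraMap K L (algebraMap A K a) = algebraMap B L (algebraMap A B a))
    (hgen : Algebra.adjoin L (Set.range (algebraMap K₁ M)) = ⊤)
    (h : EtRam.IsUnramifiedExt A ((algebraMap K K₁).comp (algebraMap A K))) :
    EtRam.IsUnramifiedExt B ((algebraMap L M).comp (algebraMap B L)) := by
  classical
  intro W hW
  letI : Algebra B W := (RingHom.codRestrict ((algebraMap L M).comp (algebraMap B L)) W hW.1).toAlgebra
  intro hlB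
  obtain ⟨π, hπ⟩ := IsDiscreteValuationRing.exists_irreducible A
  obtain ⟨πB, hπB⟩ := IsDiscreteValuationRing.exists_irreducible B
  let j := algebraMap K₁ M
  let g : B →+* M := (algebraMap L M).comp (algebraMap B L)
  let V := W.comap j
  have hjA : ∀ a : A, j (algebraMap K K₁ (algebraMap A K a)) = g (algebraMap A B a) := fun a => by
    show algebraMap K₁ M _ = algebraMap L M (algebraMap B L (algebraMap A B a))
    rw [← hA, ← IsScalarTower.algebraMap_apply K K₁ M, ← IsScalarTower.algebraMap_apply K L M]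
  have hdA : EtRam.Dominates A ((algebraMap K M).comp (algebraMap A K)) W := by
    have he : ∀ a, ((algebraMap K M).comp (algebraMap A K)) a = g (algebraMap A B a) := fun a => by
      rw [← hjA, ← IsScalarTower.algebraMap_apply K K₁ M]; rfl
    exact ⟨fun a => he a ▸ hW.1 _, fun a ha => he a ▸ hW.2 _ fun hu => ha (IsUnit.of_map (algebraMap A B) a hu)⟩
  obtain ⟨x, hU, e, he, hxe⟩ := exists_unif W j (IsScalarTower.algebraMap_eq K K₁ M).symm hπ hdA
  have hVdom : EtRam.Dominates A ((algebraMap K K₁).comp (algebraMap A K)) V := by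
    refine ⟨fun a => ?_, fun a ha => ?_⟩
    · show j _ ∈ W
      rw [RingHom.comp_apply, hjA]; exact hW.1 _
    · refine (V.valuation_lt_one_iff ⟨_, show j ((algebraMap K K₁).comp (algebraMap A K) a) ∈ W by
        rw [RingHom.comp_apply, hjA]; exact hW.1 _⟩).1 fun hu => ?_
      have h1 := (W.valuation_eq_one_iff _).1 (hu.map (EtRam.inclOfComap W j))
      have h2 := hW.2 (algebraMap A B a) fun hu' => ha (IsUnit.of_map (algebraMap A B) a hu')
      refine h2.ne ?_
      rw [← h1]
      show W.valuation (g (algebraMap A B a)) = W.valuation (j (algebraMap K K₁ (algebraMap A K a)))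
      rw [hjA]
  let _ : Algebra A V := (RingHom.codRestrict ((algebraMap K K₁).comp (algebraMap A K)) V hVdom.1).toAlgebra
  have hloc : IsLocalHom (algebraMap A V) := ⟨fun a ha => by
    by_contra hn
    exact ((V.valuation_lt_one_iff (algebraMap A V a)).2 (hVdom.2 a hn)) ha⟩
  obtain ⟨hwu, hsep⟩ := h V hVdom
  let gW : B →+* W := algebraMap B W
  let ιV := EtRam.inclOfComap W j
  let kA := ResidueField A
  let k₁ := ResidueField V
  let kB := ResidueField B
  let kW := ResidueField W
  let _ : Algebra kA kW := ((algebraMap kB kW).comp (algebraMap kA kB)).toAlgebra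
  have : IsScalarTower kA kB kW := IsScalarTower.of_algebraMap_eq fun _ => rfl
  let α : k₁ →ₐ[kA] kW :=
    { ResidueField.map ιV with
      commutes' := fun c => by
        obtain ⟨a, rfl⟩ := residue_surjective c
        show ResidueField.map ιV (residue V (algebraMap A V a)) = residue W (gW (algebraMap A B a))
        rw [ResidueField.map_residue]
        exact congrArg (residue W) (Subtype.ext (hjA a)) }
  have hfin : Module.Finite kA k₁ := finite_residue V fun _ => rfl
  have : Algebra.IsGeometricallyReduced kA k₁ := SHDescLib.geomRed_of_separable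
  let T := kB ⊗[kA] k₁
  let φ : T →ₐ[kB] kW := Algebra.TensorProduct.lift (Algebra.ofId kB kW) α fun _ _ => Commute.all _ _
  have : IsReduced T := by
    have h2 := ((Groth.Agent.S9634.result (k := kA) (S := k₁)).out 1 2).1 ‹_›
    exact h2 kB
  have : IsArtinianRing T := IsArtinianRing.of_finite kB _
  have : IsSemisimpleRing T := IsArtinianRing.isSemisimpleRing_of_isReduced T
  obtain ⟨f, hf, hker⟩ := IsSemisimpleRing.ideal_eq_span_idempotent (RingHom.ker φ)
  have hφf : φ f = 0 := by rw [← RingHom.mem_ker, hker]; exact Ideal.mem_span_singleton_self _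
  -- lifting to `B ⊗ V`
  let _ : Algebra A W := (gW.comp (algebraMap A B)).toAlgebra
  let ψ : (B ⊗[A] V) →ₐ[A] W := Algebra.TensorProduct.lift
    ({ gW with commutes' := fun _ => rfl } : B →ₐ[A] W)
    ({ ιV with commutes' := fun a => Subtype.ext (hjA a) } : V →ₐ[A] W) fun _ _ => Commute.all _ _
  have : TensorProduct.CompatibleSMul A kA kB k₁ := ⟨fun c m n => by
    obtain ⟨a, rfl⟩ := residue_surjective c
    rw [← ResidueField.algebraMap_eq, algebraMap_smul, algebraMap_smul, TensorProduct.smul_tmul]⟩
  let resV : V →ₐ[A] k₁ := IsScalarTower.toAlgHom A V k₁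
  let resB : B →ₐ[A] kB := IsScalarTower.toAlgHom A B kB
  let e₀ : T ≃ₐ[A] (kB ⊗[A] k₁) := Algebra.TensorProduct.equivOfCompatibleSMul A kA A kB k₁
  let ρ : (B ⊗[A] V) →+* T := e₀.symm.toRingEquiv.toRingHom.comp (Algebra.TensorProduct.map resB resV).toRingHom
  have hρsurj : Function.Surjective ρ := e₀.symm.surjective.comp
    (Algebra.TensorProduct.map_surjective resB resV residue_surjective residue_surjective)
  have hφρ : ∀ r, φ (ρ r) = residue W (ψ r) := fun r => by
    induction r using TensorProduct.induction_on with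
    | zero => simp
    | tmul b v =>
      show φ (residue B b ⊗ₜ residue V v) = residue W (gW b * ιV v)
      rw [map_mul, Algebra.TensorProduct.lift_tmul]
      show algebraMap kB kW (residue B b) * ResidueField.map ιV (residue V v) = _
      rw [ResidueField.map_residue]
      rfl
    | add r s hr hs => simp only [map_add, hr, hs]
  let X : B ⊗[A] V := πB ⊗ₜ[A] (1 : V)
  have hkerρ : ∀ r, ρ r = 0 → ∃ r', r = X * r' := by
    intro r hr
    have h1 : r ∈ RingHom.ker (Algebra.TensorProduct.map resB resV) := by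
      rw [RingHom.mem_ker]
      refine e₀.symm.injective ?_
      rw [map_zero]; exact hr
    rw [Algebra.TensorProduct.map_ker resB resV residue_surjective residue_surjective] at h1
    refine Ideal.mem_span_singleton.1 ((sup_le ?_ ?_ : _ ≤ Ideal.span {X}) h1)
    · refine Ideal.map_le_iff_le_comap.2 fun b hb => Ideal.mem_span_singleton.2 ?_
      have hb' : b ∈ maximalIdeal B := (residue_eq_zero_iff b).1 hb
      rw [hπB.maximalIdeal_eq, Ideal.mem_span_singleton] at hb'
      obtain ⟨b', rfl⟩ := hb'
      exact ⟨b' ⊗ₜ 1, by simp [X]⟩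
    · refine Ideal.map_le_iff_le_comap.2 fun v hv => Ideal.mem_span_singleton.2 ?_
      have hv' : v ∈ maximalIdeal V := (residue_eq_zero_iff v).1 hv
      rw [← hwu, hπ.maximalIdeal_eq, Ideal.map_span, Set.image_singleton, Ideal.mem_span_singleton] at hv'
      obtain ⟨v', rfl⟩ := hv'
      obtain ⟨c, hc⟩ : πB ∣ algebraMap A B π := by
        rw [← Ideal.mem_span_singleton, ← hπB.maximalIdeal_eq]
        exact fun hu => hπ.not_isUnit (IsUnit.of_map (algebraMap A B) π hu)
      refine ⟨c ⊗ₜ v', ?_⟩
      show (1 : B) ⊗ₜ[A] (algebraMap A V π * v') = _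
      rw [Algebra.TensorProduct.tmul_mul_tmul, ← hc, one_mul, ← Algebra.smul_def, TensorProduct.tmul_smul,
        TensorProduct.smul_tmul', Algebra.smul_def, mul_one]
  obtain ⟨εR, hεR⟩ := hρsurj (1 - f)
  have hε : residue W (ψ εR) = 1 := by rw [← hφρ, hεR, map_sub, map_one, hφf, sub_zero]
  have hεv : W.valuation (ψ εR : M) = 1 := (W.valuation_eq_one_iff _).1 <| by
    rw [← residue_ne_zero_iff_isUnit, hε]; exact one_ne_zero
  let P : M := g πB
  let q := W.valuation P
  have hgne : ∀ b : B, b ≠ 0 → g b ≠ 0 := fun b hb =>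
    (_root_.map_ne_zero (algebraMap L M)).2 ((map_ne_zero_iff _ (IsFractionRing.injective B L)).2 hb)
  have hP : P ≠ 0 := hgne _ hπB.ne_zero
  have hq0 : 0 < q := zero_lt_iff.2 ((_root_.map_ne_zero _).2 hP)
  have hq1 : q < 1 := hW.2 _ hπB.not_isUnit
  have hψB : ∀ (b : B) (v : V), ((ψ (b ⊗ₜ v) : W) : M) = g b * j (v : K₁) := fun b v => rfl
  have hXv : W.valuation ((ψ X : W) : M) = q := by
    rw [hψB, OneMemClass.coe_one, map_one, mul_one]
  have step : ∀ r, W.valuation ((ψ r : W) : M) < 1 → ∃ r', ψ r * ψ εR = ψ X * ψ r' := by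
    intro r hr
    have h0 : ρ r ∈ RingHom.ker φ := by
      rw [RingHom.mem_ker, hφρ, residue_eq_zero_iff]
      exact (W.valuation_lt_one_iff _).2 hr
    obtain ⟨t, ht⟩ := Ideal.mem_span_singleton.1 (hker ▸ h0)
    obtain ⟨r', hr'⟩ := hkerρ (r * εR) (by
      rw [map_mul, hεR, ht, mul_comm f t, mul_assoc, mul_sub, mul_one, hf.eq, sub_self, mul_zero])
    exact ⟨r', by rw [← map_mul, hr', map_mul]⟩
  have iter : ∀ m r, W.valuation ((ψ r : W) : M) ≤ q ^ m → ∃ r', ψ r * ψ εR ^ m = ψ X ^ m * ψ r' := by
    intro m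
    induction m with
    | zero => exact fun r _ => ⟨r, by simp⟩
    | succ m ih =>
      intro r hr
      obtain ⟨r', hr'⟩ := ih r (hr.trans (pow_le_pow_of_le_one zero_le hq1.le (Nat.le_succ m)))
      have hv := congrArg (fun w : W => W.valuation (w : M)) hr'
      simp only [MulMemClass.coe_mul, SubmonoidClass.coe_pow, map_mul, map_pow, hεv, hXv, one_pow, mul_one] at hv
      have hlt : W.valuation ((ψ r' : W) : M) < 1 := by
        by_contra hge
        refine not_lt.2 hr (lt_of_lt_of_le ?_ (le_of_le_of_eq (le_mul_of_one_le_right zero_le (not_lt.1 hge)) hv.symm))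
        exact pow_lt_pow_right_of_lt_one₀ hq0 hq1 (Nat.lt_succ_self m)
      obtain ⟨r'', hr''⟩ := step r' hlt
      exact ⟨r'', by rw [pow_succ, pow_succ, ← mul_assoc, hr', mul_assoc, hr'', ← mul_assoc]⟩
  -- the extension is algebraic and spanned by the tensor product after clearing denominators
  have halg : ∀ z : M, IsIntegral L z := fun z => by
    have hz : z ∈ Algebra.adjoin L (Set.range (algebraMap K₁ M)) := hgen ▸ Algebra.mem_top
    induction hz using Algebra.adjoin_induction with
    | mem w hw =>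
      obtain ⟨k, rfl⟩ := hw
      exact ((IsIntegral.of_finite K k).map (IsScalarTower.toAlgHom K K₁ M)).tower_top
    | algebraMap l => exact isIntegral_algebraMap
    | add a b _ _ ha hb => exact ha.add hb
    | mul a b _ _ ha hb => exact ha.mul hb
  have hrep : ∀ z : M, ∃ (d : B) (r : B ⊗[A] V), d ≠ 0 ∧ g d * z = ((ψ r : W) : M) := fun z => by
    have hz : z ∈ Algebra.adjoin L (Set.range (algebraMap K₁ M)) := hgen ▸ Algebra.mem_top
    induction hz using Algebra.adjoin_induction with
    | mem w hw =>
      obtain ⟨k, rfl⟩ := hw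
      obtain ⟨N, hN⟩ : ∃ N : ℕ, W.valuation (j (algebraMap K K₁ (algebraMap A K π) ^ N * k)) ≤ 1 := by
        by_cases hk : k = 0
        · exact ⟨0, by simp [hk]⟩
        obtain ⟨m, hm⟩ := hU.gen k hk
        refine ⟨m.natAbs, ?_⟩
        have hxe' : W.valuation (j (algebraMap K K₁ (algebraMap A K π))) = W.valuation (j x) ^ e := by
          rw [← hxe]; exact congrArg W.valuation (IsScalarTower.algebraMap_apply K K₁ M _).symm
        rw [map_mul, map_mul, map_pow, map_pow, hxe', hm, ← pow_mul, ← zpow_natCast, ← zpow_add₀ hU.val_pos.ne']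
        refine zpow_le_one₀ hU.val_pos hU.lt.le ?_
        have : (m.natAbs : ℤ) ≤ ((e * m.natAbs : ℕ) : ℤ) := Int.ofNat_le.2 (Nat.le_mul_of_pos_left _ he)
        omega
      refine ⟨algebraMap A B π ^ N, (1 : B) ⊗ₜ (⟨_, (W.valuation_le_one_iff _).1 hN⟩ : V),
        pow_ne_zero _ ((map_ne_zero_iff _ hinj).2 hπ.ne_zero), ?_⟩
      rw [hψB, map_one, one_mul, map_pow, ← hjA]
      show _ = j (algebraMap K K₁ (algebraMap A K π) ^ N * k)
      rw [map_mul, map_pow]
    | algebraMap l =>
      obtain ⟨a, d, hd, rfl⟩ := IsFractionRing.div_surjective (A := B) l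
      refine ⟨d, a ⊗ₜ 1, nonZeroDivisors.ne_zero hd, ?_⟩
      rw [hψB, OneMemClass.coe_one, map_one, mul_one, map_div₀]
      show g d * (g a / g d) = g a
      rw [mul_div_cancel₀ _ (hgne _ (nonZeroDivisors.ne_zero hd))]
    | add a b _ _ ha hb =>
      obtain ⟨d, r, hd, hr⟩ := ha
      obtain ⟨d', r', hd', hr'⟩ := hb
      refine ⟨d * d', d' ⊗ₜ 1 * r + d ⊗ₜ 1 * r', mul_ne_zero hd hd', ?_⟩
      simp only [map_add, map_mul, AddMemClass.coe_add, MulMemClass.coe_mul, ← hr, ← hr', hψB, OneMemClass.coe_one, map_one]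
      ring
    | mul a b _ _ ha hb =>
      obtain ⟨d, r, hd, hr⟩ := ha
      obtain ⟨d', r', hd', hr'⟩ := hb
      refine ⟨d * d', r * r', mul_ne_zero hd hd', ?_⟩
      simp only [map_mul, MulMemClass.coe_mul, ← hr, ← hr']
      ring
  have hgd : ∀ d : B, d ≠ 0 → ∃ (N : ℕ) (u : Bˣ), d = u * πB ^ N ∧ W.valuation (g d) = q ^ N := fun d hd => by
    obtain ⟨N, u, rfl⟩ := IsDiscreteValuationRing.eq_unit_mul_pow_irreducible hd hπB
    refine ⟨N, u, rfl, ?_⟩
    rw [map_mul g, map_mul, map_pow, map_pow, EtRamStepLib.valuation_eq_one_of_isUnit W hW u.isUnit, one_mul]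
  -- values
  have hval : ∀ r, ((ψ r : W) : M) ≠ 0 → ∃ n r', ψ r * ψ εR ^ n = ψ X ^ n * ψ r' ∧
      W.valuation ((ψ r' : W) : M) = 1 ∧ W.valuation ((ψ r : W) : M) = q ^ n := by
    intro r hr
    obtain ⟨N, hN⟩ := exists_pow_le (g := algebraMap L M) W hπB hW rfl (halg _).isAlgebraic hr
    have hex : ∃ n, ¬ W.valuation ((ψ r : W) : M) ≤ q ^ n := ⟨N + 1, fun h =>
      not_lt.2 (hN.trans h) (pow_lt_pow_right_of_lt_one₀ hq0 hq1 (Nat.lt_succ_self _))⟩
    obtain ⟨n, hn⟩ : ∃ n, Nat.find hex = n + 1 := Nat.exists_eq_succ_of_ne_zero fun h0 => by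
      have := Nat.find_spec hex
      rw [h0, pow_zero] at this
      exact this ((W.valuation_le_one_iff _).2 (ψ r).2)
    have hle := not_not.1 (Nat.find_min hex (show n < Nat.find hex by omega))
    have hgt := Nat.find_spec hex
    rw [hn] at hgt
    obtain ⟨r', hr'⟩ := iter n r hle
    have hv := congrArg (fun w : W => W.valuation (w : M)) hr'
    simp only [MulMemClass.coe_mul, SubmonoidClass.coe_pow, map_mul, map_pow, hεv, hXv, one_pow, mul_one] at hv
    have h1 : W.valuation ((ψ r' : W) : M) = 1 := by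
      refine le_antisymm ((W.valuation_le_one_iff _).2 (ψ r').2) (not_lt.1 fun hlt => hgt ?_)
      obtain ⟨r'', hr''⟩ := step r' hlt
      have hv' := congrArg (fun w : W => W.valuation (w : M)) hr''
      simp only [MulMemClass.coe_mul, map_mul, hεv, hXv, mul_one] at hv'
      rw [hv, hv', ← mul_assoc, ← pow_succ]
      exact mul_le_of_le_one_right zero_le ((W.valuation_le_one_iff _).2 (ψ r'').2)
    exact ⟨n, r', hr', h1, by rw [hv, h1, mul_one]⟩
  have hgenW : ∀ z : M, z ≠ 0 → ∃ k : ℤ, W.valuation z = q ^ k := fun z hz => by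
    obtain ⟨d, r, hd, hr⟩ := hrep z
    obtain ⟨n, r', -, -, hv⟩ := hval r (hr ▸ mul_ne_zero (hgne d hd) hz)
    obtain ⟨N, u, -, hN⟩ := hgd d hd
    refine ⟨(n : ℤ) - N, ?_⟩
    rw [← hr, map_mul, hN] at hv
    rw [zpow_sub₀ hq0.ne', zpow_natCast, zpow_natCast, eq_div_iff (pow_ne_zero _ hq0.ne'), mul_comm]
    exact hv
  refine ⟨le_antisymm (Ideal.map_le_iff_le_comap.2 fun b hb hu => hb (isUnit_of_map_unit gW b hu)) fun w hw => ?_, ⟨fun c => ?_⟩⟩
  · by_cases hw0 : (w : M) = 0
    · rw [show w = 0 from Subtype.ext hw0]; exact zero_mem _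
    have hle := (⟨hP, hq1, hgenW⟩ : ASWeakLib.Unif W (RingHom.id M) P).le_of_lt_one (z := (w : M))
      ((W.valuation_lt_one_iff w).1 hw)
    have hq : W.valuation ((w : M) / P) ≤ 1 := by
      rw [map_div₀]; exact div_le_one_of_le₀ hle zero_le
    rw [show w = ⟨_, (W.valuation_le_one_iff _).1 hq⟩ * gW πB from Subtype.ext (by
      show (w : M) = (w : M) / P * P
      rw [div_mul_cancel₀ _ hP])]
    exact Ideal.mul_mem_left _ _ (Ideal.mem_map_of_mem _ hπB.not_isUnit)
  obtain ⟨z, rfl⟩ := residue_surjective c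
  refine mem_separableClosure_iff.1 ?_
  by_cases hz : W.valuation (z : M) < 1
  · rw [(residue_eq_zero_iff _).2 ((W.valuation_lt_one_iff _).2 hz)]; exact zero_mem _
  have hz1 : W.valuation (z : M) = 1 := le_antisymm ((W.valuation_le_one_iff _).2 z.2) (not_lt.1 hz)
  obtain ⟨d, r, hd, hr⟩ := hrep z
  obtain ⟨n, r', hr', -, hv⟩ := hval r (hr ▸ mul_ne_zero (hgne d hd) (fun h0 => by simp [h0] at hz1))
  obtain ⟨N, u, hu, hN⟩ := hgd d hd
  rw [← hr, map_mul, hN, hz1, mul_one] at hv
  have hn : N = n := (pow_right_strictAnti₀ hq0 hq1).injective hv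
  subst hn
  have heq : gW (u : B) * z * ψ εR ^ N = ψ r' := by
    refine Subtype.ext (mul_left_cancel₀ (pow_ne_zero N hP) ?_)
    have h := congrArg (fun w : W => (w : M)) hr'
    simp only [MulMemClass.coe_mul, SubmonoidClass.coe_pow, hψB, X, OneMemClass.coe_one, map_one, mul_one, ← hr, hu,
      map_mul, map_pow] at h ⊢
    show P ^ N * (g (u : B) * z * _) = _
    linear_combination h
  have hres : algebraMap kB kW (residue B (u : B)) * residue W z = φ (ρ r') := by
    rw [hφρ, ← heq, map_mul, map_mul, map_pow, hε, one_pow, mul_one]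
    rfl
  have hu0 : algebraMap kB kW (residue B (u : B)) ≠ 0 :=
    (_root_.map_ne_zero _).2 ((residue_ne_zero_iff_isUnit _).2 u.isUnit)
  rw [show residue W z = (algebraMap kB kW (residue B (u : B)))⁻¹ * φ (ρ r') by rw [← hres, inv_mul_cancel_left₀ hu0]]
  refine mul_mem (inv_mem (IntermediateField.algebraMap_mem _ _)) ?_
  generalize ρ r' = t
  induction t using TensorProduct.induction_on with
  | zero => rw [map_zero]; exact zero_mem _
  | tmul b c =>
    rw [Algebra.TensorProduct.lift_tmul]
    refine mul_mem (IntermediateField.algebraMap_mem _ _) (mem_separableClosure_iff.2 ?_)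
    exact ((isSeparable_map_iff α α.toRingHom.injective).2 (Algebra.IsSeparable.isSeparable kA c)).tower_top kB
  | add t t' ht ht' => rw [map_add]; exact add_mem ht ht'

end SolSepLib
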