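import Groth.Agent.SolSepLib.Val
import Mathlib.RingTheory.Nilpotent.GeometricallyReduced
import Mathlib.LinearAlgebra.TensorProduct.RightExactness
import Mathlib.RingTheory.TensorProduct.Maps
import Mathlib.RingTheory.Artinian.Module
import Mathlib.RingTheory.SimpleModule.Basic
import Mathlib.RingTheory.TensorProduct.Finite

/-! Weakly unramified extensions with separable residue extension are solved by every finite extension. -/

set_option autoImplicit false
universe u

noncomputable section

namespace SolSepLib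

open IsLocalRing
open scoped TensorProduct

/-- A quotient of a geometrically reduced algebra by an idempotent is geometrically reduced. -/
theorem isGeometricallyReduced_of_idempotent {k E F : Type u} [Field k] [CommRing E] [CommRing F] [Algebra k E] [Algebra k F]
    [Algebra.IsGeometricallyReduced k E] (φ : E →ₐ[k] F) (hφ : Function.Surjective φ) {f : E} (hf : IsIdempotentElem f)
    (hker : RingHom.ker φ = Ideal.span {f}) : Algebra.IsGeometricallyReduced k F := by
  rw [Algebra.isGeometricallyReduced_field_iff]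
  let K := AlgebraicClosure k
  let Φ := Algebra.TensorProduct.map (AlgHom.id k K) φ
  have hred : IsReduced (K ⊗[k] E) := (Algebra.isGeometricallyReduced_field_iff k E).1 ‹_›
  have hΦ : RingHom.ker Φ = Ideal.span {(1 : K) ⊗ₜ[k] f} := by
    rw [Algebra.TensorProduct.lTensor_ker φ hφ, hker, Ideal.map_span, Set.image_singleton]; rfl
  have hf' : ((1 : K) ⊗ₜ[k] f) * (1 - (1 : K) ⊗ₜ[k] f) = 0 := by
    rw [mul_sub, mul_one, Algebra.TensorProduct.tmul_mul_tmul, one_mul, hf.eq, sub_self]
  refine ⟨fun z hz => ?_⟩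
  obtain ⟨r, rfl⟩ : ∃ r, Φ r = z := Algebra.TensorProduct.map_surjective _ _ Function.surjective_id hφ z
  obtain ⟨n, hn⟩ := hz
  rw [← map_pow] at hn
  have hmem : r ^ n ∈ Ideal.span {(1 : K) ⊗ₜ[k] f} := hΦ ▸ hn
  obtain ⟨c, hc⟩ := Ideal.mem_span_singleton.1 hmem
  have h0 : (r * (1 - (1 : K) ⊗ₜ[k] f)) ^ (n + 1) = 0 := by
    rw [mul_pow, pow_succ r, pow_succ' (1 - (1 : K) ⊗ₜ[k] f), hc]
    linear_combination (c * r * (1 - (1 : K) ⊗ₜ[k] f) ^ n) * hf'
  have h1 : r * (1 - (1 : K) ⊗ₜ[k] f) = 0 := IsReduced.eq_zero _ ⟨_, h0⟩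
  have h2 : Φ ((1 : K) ⊗ₜ[k] f) = 0 := by
    rw [← RingHom.mem_ker, hΦ]; exact Ideal.mem_span_singleton_self _
  have := congrArg Φ h1
  rwa [map_mul, map_sub, map_one, h2, sub_zero, mul_one, map_zero] at this

variable {A B K L K₁ M : Type u} [CommRing A] [IsDomain A] [IsDiscreteValuationRing A]
  [CommRing B] [IsDomain B] [IsDiscreteValuationRing B] [Algebra A B] [IsLocalHom (algebraMap A B)]
  [Field K] [Field L] [Algebra A K] [IsFractionRing A K] [Algebra B L] [IsFractionRing B L]
  [Algebra K L] [Field K₁] [Algebra K K₁] [FiniteDimensional K K₁]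
  [Field M] [Algebra K M] [Algebra L M] [Algebra K₁ M] [IsScalarTower K L M] [IsScalarTower K K₁ M]

set_option maxHeartbeats 1600000 in
theorem local_solution_residue (hA : ∀ a : A, algebraMap K L (algebraMap A K a) = algebraMap B L (algebraMap A B a))
    (hw : EtRam.IsWeaklyUnramified A B) [Algebra.IsGeometricallyReduced (ResidueField A) (ResidueField B)]
    (hgen : Algebra.adjoin L (Set.range (algebraMap K₁ M)) = ⊤) (W : ValuationSubring M)
    (hW : EtRam.Dominates B ((algebraMap L M).comp (algebraMap B L)) W) :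
    letI : Algebra (W.comap (algebraMap K₁ M)) W := (EtRam.inclOfComap W (algebraMap K₁ M)).toAlgebra
    EtRam.IsWeaklyUnramified (W.comap (algebraMap K₁ M)) W ∧
      @Algebra.IsGeometricallyReduced (ResidueField (W.comap (algebraMap K₁ M))) (ResidueField W) _ _
        (ResidueField.map (EtRam.inclOfComap W (algebraMap K₁ M))).toAlgebra ∧
      ∀ w : ResidueField W, w ∈ Subring.closure (Set.range (ResidueField.map (EtRam.inclOfComap W (algebraMap K₁ M))) ∪
        Set.range fun b : B => residue W ⟨algebraMap L M (algebraMap B L b), hW.1 b⟩) := by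
  classical
  obtain ⟨π, hπ⟩ := IsDiscreteValuationRing.exists_irreducible A
  let πB := algebraMap A B π
  have hπB : Irreducible πB := (IsDiscreteValuationRing.irreducible_iff_uniformizer _).2 (by
    rw [← hw, hπ.maximalIdeal_eq, Ideal.map_span, Set.image_singleton])
  let j := algebraMap K₁ M
  let g : B →+* M := (algebraMap L M).comp (algebraMap B L)
  let V := W.comap j
  have hjK : ∀ c : K, j (algebraMap K K₁ c) = algebraMap L M (algebraMap K L c) := fun c => by
    rw [← IsScalarTower.algebraMap_apply, ← IsScalarTower.algebraMap_apply]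
  have hjA : ∀ a : A, j (algebraMap K K₁ (algebraMap A K a)) = g (algebraMap A B a) := fun a => by
    rw [hjK, hA]; rfl
  have hdA : EtRam.Dominates A ((algebraMap K M).comp (algebraMap A K)) W := by
    have he : ∀ a, ((algebraMap K M).comp (algebraMap A K)) a = g (algebraMap A B a) := fun a => by
      rw [← hjA, ← IsScalarTower.algebraMap_apply]; rfl
    exact ⟨fun a => he a ▸ hW.1 _, fun a ha => he a ▸ hW.2 _ fun hu => ha (IsUnit.of_map (algebraMap A B) a hu)⟩
  obtain ⟨x, hU, e, he, hxe⟩ := exists_unif W j (IsScalarTower.algebraMap_eq K K₁ M).symm hπ hdA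
  -- the rings over `A`
  let gV : A →+* V := ((algebraMap K K₁).comp (algebraMap A K)).codRestrict V.toSubring fun a => by
    show j _ ∈ W
    rw [RingHom.comp_apply, hjA]; exact hW.1 _
  let _ : Algebra A V := gV.toAlgebra
  have hloc : IsLocalHom (algebraMap A V) := ⟨fun a ha => by
    by_contra hn
    have h1 := hW.2 (algebraMap A B a) fun hu => hn (IsUnit.of_map (algebraMap A B) a hu)
    have h2 := (W.valuation_eq_one_iff _).1 (ha.map (EtRam.inclOfComap W j))
    refine h1.ne ?_
    rw [← h2]
    show W.valuation (g (algebraMap A B a)) = W.valuation (j (algebraMap K K₁ (algebraMap A K a)))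
    rw [hjA]⟩
  let gW : B →+* W := g.codRestrict W.toSubring hW.1
  have hlW : IsLocalHom gW := ⟨fun b hb => by
    by_contra hn
    exact ((W.valuation_lt_one_iff (gW b)).2 (hW.2 b hn)) hb⟩
  let ιV := EtRam.inclOfComap W j
  let k₁ := ResidueField V
  let kB := ResidueField B
  let kW := ResidueField W
  let _ : Algebra k₁ kW := (ResidueField.map ιV).toAlgebra
  let _ : Algebra (ResidueField A) kW := ((ResidueField.map ιV).comp (algebraMap (ResidueField A) k₁)).toAlgebra
  have : IsScalarTower (ResidueField A) k₁ kW := IsScalarTower.of_algebraMap_eq fun _ => rfl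
  let β : kB →ₐ[ResidueField A] kW :=
    { ResidueField.map gW with
      commutes' := fun c => by
        obtain ⟨a, rfl⟩ := residue_surjective c
        show ResidueField.map gW (residue B (algebraMap A B a)) = ResidueField.map ιV (residue V (algebraMap A V a))
        rw [ResidueField.map_residue, ResidueField.map_residue]
        exact congrArg (residue W) (Subtype.ext (hjA a).symm) }
  -- finiteness of the residue extension
  have : Module.Finite (ResidueField A) k₁ := by
    refine Module.rank_lt_aleph0_iff.1 (lt_of_le_of_lt (rank_le (n := Module.finrank K K₁) fun s hs => ?_) Cardinal.natCast_lt_aleph0)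
    choose t ht using fun r : s => residue_surjective (r : k₁)
    have hli : LinearIndependent K (fun r : s => ((t r : V) : K₁)) := by
      refine Fintype.linearIndependent_iff.2 fun c hc => ?_
      by_contra hne
      push Not at hne
      obtain ⟨r₀, hr₀⟩ := hne
      obtain ⟨⟨d, hd⟩, hden⟩ := IsLocalization.exist_integer_multiples_of_finite (nonZeroDivisors A) c
      choose a ha using hden
      have hd0 : algebraMap A K d ≠ 0 := (map_ne_zero_iff _ (IsFractionRing.injective A K)).2 (nonZeroDivisors.ne_zero hd)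
      have ha0 : a r₀ ≠ 0 := fun h0 => hr₀ (by
        have := ha r₀
        rw [h0, map_zero, Algebra.smul_def, eq_comm, mul_eq_zero] at this
        exact this.resolve_left hd0)
      -- divide by the common power of the uniformiser
      have hex : ∃ n, ¬ ∀ r, π ^ n ∣ a r := by
        obtain ⟨n, hn⟩ := FiniteMultiplicity.of_prime_left hπ.prime ha0
        exact ⟨n + 1, fun hall => hn (hall r₀)⟩
      obtain ⟨n, hn⟩ : ∃ n, Nat.find hex = n + 1 := Nat.exists_eq_succ_of_ne_zero fun h0 => by
        have := Nat.find_spec hex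
        rw [h0] at this
        exact this fun r => by simp
      have hdiv : ∀ r, π ^ n ∣ a r := not_not.1 (Nat.find_min hex (show n < Nat.find hex by omega))
      choose b hb using hdiv
      have hsum : ∑ r, algebraMap A V (b r) * t r = 0 := by
        have h1 : algebraMap K K₁ (algebraMap A K d) * ∑ r, c r • ((t r : V) : K₁) = 0 := by rw [hc, mul_zero]
        rw [Finset.mul_sum] at h1
        have h2 : algebraMap K K₁ (algebraMap A K π) ^ n * ((∑ r, algebraMap A V (b r) * t r : V) : K₁) = 0 := by
          rw [← h1, AddSubmonoidClass.coe_finsetSum, Finset.mul_sum]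
          refine Finset.sum_congr rfl fun r _ => ?_
          have := ha r
          rw [hb r, Algebra.smul_def] at this
          rw [Algebra.smul_def, ← mul_assoc (algebraMap K K₁ _), ← map_mul (algebraMap K K₁)]
          show _ * (algebraMap K K₁ (algebraMap A K (b r)) * _) = _
          rw [← mul_assoc, ← map_pow, ← map_mul, ← map_pow, ← map_mul (algebraMap A K), this]
        have hπ0 : algebraMap K K₁ (algebraMap A K π) ^ n ≠ 0 := pow_ne_zero _ ((_root_.map_ne_zero _).2
          ((map_ne_zero_iff _ (IsFractionRing.injective A K)).2 hπ.ne_zero))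
        exact Subtype.ext ((mul_eq_zero.1 h2).resolve_left hπ0)
      have hres := congrArg (residue V) hsum
      rw [map_sum, map_zero] at hres
      have h3 := Fintype.linearIndependent_iff.1 hs (fun r => residue A (b r)) (by
        rw [← hres]
        refine Finset.sum_congr rfl fun r _ => ?_
        rw [map_mul, ht, Algebra.smul_def]
        rfl)
      refine Nat.find_spec hex fun r => ?_
      rw [hn, pow_succ, hb r]
      refine mul_dvd_mul_left _ ?_
      rw [← Ideal.mem_span_singleton, ← hπ.maximalIdeal_eq, ← residue_eq_zero_iff]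
      exact h3 r
    simpa using hli.fintype_card_le_finrank
  let T := k₁ ⊗[ResidueField A] kB
  let φ : T →ₐ[k₁] kW := Algebra.TensorProduct.lift (Algebra.ofId k₁ kW) β fun _ _ => Commute.all _ _
  have : IsReduced T := inferInstance
  have : IsArtinianRing T := by
    have : IsArtinianRing (kB ⊗[ResidueField A] k₁) := IsArtinianRing.of_finite kB _
    exact (Algebra.TensorProduct.comm (ResidueField A) kB k₁).toRingEquiv.surjective.isArtinianRing
      (f := (Algebra.TensorProduct.comm (ResidueField A) kB k₁).toRingEquiv.toRingHom)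
  have : IsSemisimpleRing T := IsArtinianRing.isSemisimpleRing_of_isReduced T
  obtain ⟨f, hf, hker⟩ := IsSemisimpleRing.ideal_eq_span_idempotent (RingHom.ker φ)
  have hφf : φ f = 0 := by rw [← RingHom.mem_ker, hker]; exact Ideal.mem_span_singleton_self _
  -- lifting to `V ⊗ B`
  let _ : Algebra A W := (gW.comp (algebraMap A B)).toAlgebra
  let ψ : (V ⊗[A] B) →ₐ[A] W := Algebra.TensorProduct.lift
    ({ ιV with commutes' := fun a => Subtype.ext (hjA a) } : V →ₐ[A] W)
    ({ gW with commutes' := fun _ => rfl } : B →ₐ[A] W) fun _ _ => Commute.all _ _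
  have : TensorProduct.CompatibleSMul A (ResidueField A) k₁ kB := ⟨fun c m n => by
    obtain ⟨a, rfl⟩ := residue_surjective c
    rw [← ResidueField.algebraMap_eq, algebraMap_smul, algebraMap_smul, TensorProduct.smul_tmul]⟩
  let resV : V →ₐ[A] k₁ := IsScalarTower.toAlgHom A V k₁
  let resB : B →ₐ[A] kB := IsScalarTower.toAlgHom A B kB
  let E := k₁ ⊗[A] kB
  let e₀ : T ≃ₐ[A] E := Algebra.TensorProduct.equivOfCompatibleSMul A (ResidueField A) A k₁ kB
  let ρ : (V ⊗[A] B) →+* T := e₀.symm.toRingEquiv.toRingHom.comp (Algebra.TensorProduct.map resV resB).toRingHom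
  have hρsurj : Function.Surjective ρ := e₀.symm.surjective.comp
    (Algebra.TensorProduct.map_surjective resV resB residue_surjective residue_surjective)
  have hφρ : ∀ r, φ (ρ r) = residue W (ψ r) := fun r => by
    induction r using TensorProduct.induction_on with
    | zero => simp
    | tmul v b =>
      show φ (residue V v ⊗ₜ residue B b) = residue W (ιV v * gW b)
      rw [map_mul, Algebra.TensorProduct.lift_tmul]
      show ResidueField.map ιV (residue V v) * ResidueField.map gW (residue B b) = _
      rw [ResidueField.map_residue, ResidueField.map_residue]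
    | add r s hr hs => simp only [map_add, hr, hs]
  let X : V := ⟨x, (W.valuation_le_one_iff _).1 hU.lt.le⟩
  have hmV : ∀ v : V, v ∈ maximalIdeal V → ∃ v' : V, v = X * v' := fun v hv => by
    have h1 : W.valuation (j (v : K₁)) < 1 := (W.valuation_lt_one_iff (ιV v)).1 fun h => hv (isUnit_of_map_unit ιV v h)
    have h2 : W.valuation (j ((v : K₁) / x)) ≤ 1 := by
      rw [map_div₀, map_div₀]; exact div_le_one_of_le₀ (hU.le_of_lt_one h1) zero_le
    exact ⟨⟨_, (W.valuation_le_one_iff _).1 h2⟩, Subtype.ext (by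
      show (v : K₁) = x * ((v : K₁) / x)
      rw [mul_div_cancel₀ _ hU.ne])⟩
  have hkerρ : ∀ r, ρ r = 0 → ∃ r', r = (X ⊗ₜ[A] (1 : B)) * r' := by
    intro r hr
    have h1 : r ∈ RingHom.ker (Algebra.TensorProduct.map resV resB) := by
      rw [RingHom.mem_ker]
      refine e₀.symm.injective ?_
      rw [map_zero]; exact hr
    rw [Algebra.TensorProduct.map_ker resV resB residue_surjective residue_surjective] at h1
    refine Ideal.mem_span_singleton.1 ((sup_le ?_ ?_ : _ ≤ Ideal.span {X ⊗ₜ[A] (1 : B)}) h1)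
    · refine Ideal.map_le_iff_le_comap.2 fun v hv => Ideal.mem_span_singleton.2 ?_
      obtain ⟨v', rfl⟩ := hmV v ((residue_eq_zero_iff v).1 hv)
      exact ⟨v' ⊗ₜ 1, by simp⟩
    · refine Ideal.map_le_iff_le_comap.2 fun b hb => Ideal.mem_span_singleton.2 ?_
      have hb' : b ∈ maximalIdeal B := (residue_eq_zero_iff b).1 hb
      rw [hπB.maximalIdeal_eq, Ideal.mem_span_singleton] at hb'
      obtain ⟨b', rfl⟩ := hb'
      obtain ⟨v', hv'⟩ := hmV (algebraMap A V π) fun hu => hπ.not_isUnit (IsUnit.of_map (algebraMap A V) π hu)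
      refine ⟨v' ⊗ₜ b', ?_⟩
      show (1 : V) ⊗ₜ[A] (algebraMap A B π * b') = _
      rw [Algebra.TensorProduct.tmul_mul_tmul, ← hv', one_mul, ← Algebra.smul_def, TensorProduct.tmul_smul,
        TensorProduct.smul_tmul', Algebra.smul_def, mul_one]
  obtain ⟨εR, hεR⟩ := hρsurj (1 - f)
  have hε : residue W (ψ εR) = 1 := by rw [← hφρ, hεR, map_sub, map_one, hφf, sub_zero]
  have hεv : W.valuation (ψ εR : M) = 1 := (W.valuation_eq_one_iff _).1 <| by
    rw [← residue_ne_zero_iff_isUnit, hε]; exact one_ne_zero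
  let q := W.valuation (j x)
  have hXv : W.valuation ((ψ (X ⊗ₜ[A] (1 : B)) : W) : M) = q := by
    show W.valuation (((ιV X : W) * gW 1 : W) : M) = q
    rw [map_one, mul_one]; rfl
  have step : ∀ r, W.valuation ((ψ r : W) : M) < 1 → ∃ r', ψ r * ψ εR = ψ (X ⊗ₜ[A] (1 : B)) * ψ r' := by
    intro r hr
    have h0 : ρ r ∈ RingHom.ker φ := by
      rw [RingHom.mem_ker, hφρ, residue_eq_zero_iff]
      exact (W.valuation_lt_one_iff _).2 hr
    obtain ⟨t, ht⟩ := Ideal.mem_span_singleton.1 (hker ▸ h0)
    obtain ⟨r', hr'⟩ := hkerρ (r * εR) (by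
      rw [map_mul, hεR, ht, mul_comm f t, mul_assoc, mul_sub, mul_one, hf.eq, sub_self, mul_zero])
    exact ⟨r', by rw [← map_mul, hr', map_mul]⟩
  have iter : ∀ m r, W.valuation ((ψ r : W) : M) ≤ q ^ m → ∃ r', ψ r * ψ εR ^ m = ψ (X ⊗ₜ[A] (1 : B)) ^ m * ψ r' := by
    intro m
    induction m with
    | zero => exact fun r _ => ⟨r, by simp⟩
    | succ m ih =>
      intro r hr
      obtain ⟨r', hr'⟩ := ih r (hr.trans (pow_le_pow_of_le_one zero_le hU.lt.le (Nat.le_succ m)))
      have hv := congrArg (fun w : W => W.valuation (w : M)) hr'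
      simp only [MulMemClass.coe_mul, SubmonoidClass.coe_pow, map_mul, map_pow, hεv, hXv, one_pow, mul_one] at hv
      have hlt : W.valuation ((ψ r' : W) : M) < 1 := by
        by_contra hge
        refine not_lt.2 hr (lt_of_lt_of_le ?_ (le_of_le_of_eq (le_mul_of_one_le_right zero_le (not_lt.1 hge)) hv.symm))
        exact pow_lt_pow_right_of_lt_one₀ hU.val_pos hU.lt (Nat.lt_succ_self m)
      obtain ⟨r'', hr''⟩ := step r' hlt
      exact ⟨r'', by rw [pow_succ, pow_succ, ← mul_assoc, hr', mul_assoc, hr'', ← mul_assoc]⟩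
  -- the extension is algebraic and spanned by the tensor product after inverting the uniformiser
  have halg : ∀ z : M, IsIntegral L z := fun z => by
    have hz : z ∈ Algebra.adjoin L (Set.range (algebraMap K₁ M)) := hgen ▸ Algebra.mem_top
    induction hz using Algebra.adjoin_induction with
    | mem w hw =>
      obtain ⟨k, rfl⟩ := hw
      exact ((IsIntegral.of_finite K k).map (IsScalarTower.toAlgHom K K₁ M)).tower_top
    | algebraMap l => exact isIntegral_algebraMap
    | add a b _ _ ha hb => exact ha.add hb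
    | mul a b _ _ ha hb => exact ha.mul hb
  let P : M := g πB
  have hgne : ∀ b : B, b ≠ 0 → g b ≠ 0 := fun b hb =>
    (_root_.map_ne_zero (algebraMap L M)).2 ((map_ne_zero_iff _ (IsFractionRing.injective B L)).2 hb)
  have hP : P ≠ 0 := hgne _ hπB.ne_zero
  have hqP : W.valuation P = q ^ e := by
    show W.valuation (g (algebraMap A B π)) = _
    rw [← hjA, ← hxe]
    exact congrArg W.valuation (IsScalarTower.algebraMap_apply K K₁ M _).symm
  have hrep : ∀ z : M, ∃ (N : ℕ) (r : V ⊗[A] B), P ^ N * z = ((ψ r : W) : M) := fun z => by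
    have hz : z ∈ Algebra.adjoin L (Set.range (algebraMap K₁ M)) := hgen ▸ Algebra.mem_top
    induction hz using Algebra.adjoin_induction with
    | mem w hw =>
      obtain ⟨k, rfl⟩ := hw
      obtain ⟨N, hN⟩ : ∃ N : ℕ, W.valuation (P ^ N * j k) ≤ 1 := by
        by_cases hk : k = 0
        · exact ⟨0, by simp [hk]⟩
        obtain ⟨m, hm⟩ := hU.gen k hk
        refine ⟨m.natAbs, ?_⟩
        rw [map_mul, map_pow, hqP, hm, ← pow_mul, ← zpow_natCast, ← zpow_add₀ hU.val_pos.ne']
        refine zpow_le_one₀ hU.val_pos hU.lt.le ?_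
        have : (m.natAbs : ℤ) ≤ ((e * m.natAbs : ℕ) : ℤ) := Int.ofNat_le.2 (Nat.le_mul_of_pos_left _ he)
        omega
      have hP' : P ^ N * j k = j ((algebraMap K K₁ (algebraMap A K π)) ^ N * k) := by
        rw [map_mul, map_pow, hjA]
      refine ⟨N, (⟨_, show j ((algebraMap K K₁ (algebraMap A K π)) ^ N * k) ∈ W from (W.valuation_le_one_iff _).1 (hP' ▸ hN)⟩ : V) ⊗ₜ 1, ?_⟩
      show _ = ((ιV _ * gW 1 : W) : M)
      rw [map_one, mul_one]; exact hP'
    | algebraMap l =>
      obtain ⟨a, d, hd, rfl⟩ := IsFractionRing.div_surjective (A := B) l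
      obtain ⟨N, u, hu⟩ := IsDiscreteValuationRing.eq_unit_mul_pow_irreducible (nonZeroDivisors.ne_zero hd) hπB
      refine ⟨N, (1 : V) ⊗ₜ (a * (u⁻¹ : Bˣ)), ?_⟩
      show _ = ((ιV 1 * gW _ : W) : M)
      rw [map_one, one_mul]
      show P ^ N * algebraMap L M _ = g _
      have hu0 : g (u : B) ≠ 0 := hgne _ u.ne_zero
      have h1 : g ((u⁻¹ : Bˣ) : B) = (g (u : B))⁻¹ :=
        eq_inv_of_mul_eq_one_right (by rw [← map_mul, Units.mul_inv, map_one])
      rw [map_div₀, map_mul, h1]
      show P ^ N * (g a / g d) = _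
      rw [hu, map_mul, map_pow]
      simp only [P] at hP ⊢
      field_simp
    | add a b _ _ ha hb =>
      obtain ⟨N, r, hr⟩ := ha
      obtain ⟨N', r', hr'⟩ := hb
      refine ⟨N + N', (1 : V) ⊗ₜ (πB ^ N') * r + (1 : V) ⊗ₜ (πB ^ N) * r', ?_⟩
      simp only [map_add, map_mul, AddMemClass.coe_add, MulMemClass.coe_mul, ← hr, ← hr']
      show P ^ (N + N') * (a + b) = ((ιV 1 * gW _ : W) : M) * _ + ((ιV 1 * gW _ : W) : M) * _
      rw [map_one, one_mul, one_mul]
      show _ = g (πB ^ N') * _ + g (πB ^ N) * _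
      rw [map_pow, map_pow, pow_add]
      ring
    | mul a b _ _ ha hb =>
      obtain ⟨N, r, hr⟩ := ha
      obtain ⟨N', r', hr'⟩ := hb
      refine ⟨N + N', r * r', ?_⟩
      simp only [map_mul, MulMemClass.coe_mul, ← hr, ← hr', pow_add]
      ring
  -- values
  have hval : ∀ r, ((ψ r : W) : M) ≠ 0 → ∃ n r', ψ r * ψ εR ^ n = ψ (X ⊗ₜ[A] (1 : B)) ^ n * ψ r' ∧
      W.valuation ((ψ r' : W) : M) = 1 ∧ W.valuation ((ψ r : W) : M) = q ^ n := by
    intro r hr
    obtain ⟨N, hN⟩ := exists_pow_le (g := algebraMap L M) W hπB hW rfl (halg _).isAlgebraic hr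
    have hex : ∃ n, ¬ W.valuation ((ψ r : W) : M) ≤ q ^ n := ⟨e * N + 1, fun h => by
      refine not_lt.2 (hN.trans h) ?_
      show q ^ (e * N + 1) < W.valuation P ^ N
      rw [hqP, ← pow_mul]
      exact pow_lt_pow_right_of_lt_one₀ hU.val_pos hU.lt (Nat.lt_succ_self _)⟩
    obtain ⟨n, hn⟩ : ∃ n, Nat.find hex = n + 1 := Nat.exists_eq_succ_of_ne_zero fun h0 => by
      have := Nat.find_spec hex
      rw [h0, pow_zero] at this
      exact this ((W.valuation_le_one_iff _).2 (ψ r).2)
    have hle := not_not.1 (Nat.find_min hex (show n < Nat.find hex by omega))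
    have hgt := Nat.find_spec hex
    rw [hn] at hgt
    obtain ⟨r', hr'⟩ := iter n r hle
    have hv := congrArg (fun w : W => W.valuation (w : M)) hr'
    simp only [MulMemClass.coe_mul, SubmonoidClass.coe_pow, map_mul, map_pow, hεv, hXv, one_pow, mul_one] at hv
    have h1 : W.valuation ((ψ r' : W) : M) = 1 := by
      refine le_antisymm ((W.valuation_le_one_iff _).2 (ψ r').2) (not_lt.1 fun hlt => hgt ?_)
      obtain ⟨r'', hr''⟩ := step r' hlt
      have hv' := congrArg (fun w : W => W.valuation (w : M)) hr''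
      simp only [MulMemClass.coe_mul, map_mul, hεv, hXv, mul_one] at hv'
      rw [hv, hv', ← mul_assoc, ← pow_succ]
      exact mul_le_of_le_one_right zero_le ((W.valuation_le_one_iff _).2 (ψ r'').2)
    exact ⟨n, r', hr', h1, by rw [hv, h1, mul_one]⟩
  have hgenW : ∀ z : M, z ≠ 0 → ∃ k : ℤ, W.valuation z = q ^ k := fun z hz => by
    obtain ⟨N, r, hr⟩ := hrep z
    obtain ⟨n, r', -, -, hv⟩ := hval r (hr ▸ mul_ne_zero (pow_ne_zero _ hP) hz)
    refine ⟨(n : ℤ) - (e * N : ℕ), ?_⟩
    rw [← hr, map_mul, map_pow, hqP, ← pow_mul] at hv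
    rw [zpow_sub₀ hU.val_pos.ne', zpow_natCast, zpow_natCast, eq_div_iff (pow_ne_zero _ hU.val_pos.ne'), mul_comm]
    exact hv
  refine ⟨EtRamStepLib.weaklyUnramified_of_le W j x hU.lt fun z hz =>
    (⟨(_root_.map_ne_zero _).2 hU.ne, hU.lt, hgenW⟩ : ASWeakLib.Unif W (RingHom.id M) (j x)).le_of_lt_one hz, ?_⟩
  -- residues
  have hsurj : Function.Surjective φ := by
    intro w
    obtain ⟨z, rfl⟩ := residue_surjective w
    by_cases hz : W.valuation (z : M) < 1
    · exact ⟨0, by rw [map_zero, eq_comm, residue_eq_zero_iff]; exact (W.valuation_lt_one_iff _).2 hz⟩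
    have hz1 : W.valuation (z : M) = 1 := le_antisymm ((W.valuation_le_one_iff _).2 z.2) (not_lt.1 hz)
    obtain ⟨N, r, hr⟩ := hrep z
    obtain ⟨n, r', hr', -, hv⟩ := hval r (hr ▸ mul_ne_zero (pow_ne_zero _ hP) (fun h0 => by simp [h0] at hz1))
    rw [← hr, map_mul, map_pow, hqP, ← pow_mul, hz1, mul_one] at hv
    have hn : e * N = n := (pow_right_strictAnti₀ hU.val_pos hU.lt).injective hv
    subst hn
    -- the unit `π ^ N / x ^ (e * N)`
    let uK : K₁ := (algebraMap K K₁ (algebraMap A K π)) ^ N / x ^ (e * N)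
    have huv : W.valuation (j uK) = 1 := by
      simp only [uK, map_div₀, map_pow, hjA]
      show W.valuation P ^ N / _ = 1
      rw [hqP, ← pow_mul, div_self (pow_ne_zero _ hU.val_pos.ne')]
    have hXψ : ((ψ (X ⊗ₜ[A] (1 : B)) : W) : M) = j x := by
      show ((ιV X * gW 1 : W) : M) = _
      rw [map_one, mul_one]; rfl
    let u : V := ⟨uK, (W.valuation_le_one_iff _).1 huv.le⟩
    have heq : (z : W) * ιV u * ψ εR ^ (e * N) = ψ r' := by
      refine Subtype.ext ?_
      have h := congrArg (fun w : W => (w : M)) hr'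
      simp only [MulMemClass.coe_mul, SubmonoidClass.coe_pow, hXψ, ← hr] at h ⊢
      show (z : M) * j uK * _ = _
      have hx0 : j x ≠ 0 := (_root_.map_ne_zero _).2 hU.ne
      simp only [uK, map_div₀, map_pow, hjA]
      show (z : M) * (P ^ N / _) * _ = _
      field_simp
      linear_combination h
    have hunit : IsUnit u := isUnit_of_map_unit ιV u ((W.valuation_eq_one_iff _).2 huv)
    obtain ⟨u', hu'⟩ := hunit.exists_right_inv
    refine ⟨(residue V u' ⊗ₜ 1) * ρ r', ?_⟩
    have h1 : φ (residue V u' ⊗ₜ 1) = residue W (ιV u') := by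
      rw [Algebra.TensorProduct.lift_tmul, map_one, mul_one]
      exact ResidueField.map_residue ιV u'
    rw [map_mul, h1, hφρ, ← heq, map_mul, map_mul, map_pow, hε, one_pow, mul_one, mul_comm (residue W z),
      ← mul_assoc, ← map_mul, ← map_mul ιV, mul_comm u', hu', map_one, map_one, one_mul]
  -- geometric reducedness
  have : Algebra.IsGeometricallyReduced k₁ T := by
    rw [Algebra.isGeometricallyReduced_field_iff]
    let K' := AlgebraicClosure k₁
    have : Algebra.IsAlgebraic (ResidueField A) K' := Algebra.IsAlgebraic.trans (ResidueField A) k₁ K'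
    exact isReduced_of_injective _ (Algebra.TensorProduct.cancelBaseChange (ResidueField A) k₁ k₁ K' kB).injective
  refine ⟨isGeometricallyReduced_of_idempotent φ hsurj hf hker, fun w => ?_⟩
  obtain ⟨t, rfl⟩ := hsurj w
  induction t using TensorProduct.induction_on with
  | zero => rw [map_zero]; exact zero_mem _
  | tmul c d =>
    obtain ⟨b, rfl⟩ := residue_surjective d
    rw [Algebra.TensorProduct.lift_tmul]
    exact mul_mem (Subring.subset_closure (Or.inl ⟨c, rfl⟩)) (Subring.subset_closure (Or.inr ⟨b, rfl⟩))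
  | add t t' ht ht' => rw [map_add]; exact add_mem ht ht'

theorem local_solution (hA : ∀ a : A, algebraMap K L (algebraMap A K a) = algebraMap B L (algebraMap A B a))
    (hw : EtRam.IsWeaklyUnramified A B) [Algebra.IsGeometricallyReduced (ResidueField A) (ResidueField B)]
    (hgen : Algebra.adjoin L (Set.range (algebraMap K₁ M)) = ⊤) (W : ValuationSubring M)
    (hW : EtRam.Dominates B ((algebraMap L M).comp (algebraMap B L)) W) :
    letI : Algebra (W.comap (algebraMap K₁ M)) W := (EtRam.inclOfComap W (algebraMap K₁ M)).toAlgebra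
    EtRam.IsWeaklyUnramified (W.comap (algebraMap K₁ M)) W ∧
      @Algebra.IsGeometricallyReduced (ResidueField (W.comap (algebraMap K₁ M))) (ResidueField W) _ _
        (ResidueField.map (EtRam.inclOfComap W (algebraMap K₁ M))).toAlgebra :=
  ⟨(local_solution_residue hA hw hgen W hW).1, (local_solution_residue hA hw hgen W hW).2.1⟩

end SolSepLib
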