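import Groth.Agent.SolSepLib.Main
import Groth.Agent.SolSepLib.BaseChange
import Groth.Agent.S9634
import Mathlib.RingTheory.AdjoinRoot
import Mathlib.NumberTheory.RamificationInertia.Ramification

/-! Tame ramification is absorbed by ramified extensions of the base. -/

set_option autoImplicit false
universe u

noncomputable section

namespace SolSepLib

open IsLocalRing Polynomial
open scoped TensorProduct

set_option synthInstance.maxHeartbeats 200000 in
theorem isReduced_adjoinRoot {T : Type u} [CommRing T] [IsReduced T] {f : T[X]} (hf : f.Monic) (hsep : f.Separable) :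
    IsReduced (AdjoinRoot f) := by
  refine ⟨fun z hz => ?_⟩
  obtain ⟨n, hn⟩ := hz
  obtain ⟨g, rfl⟩ := AdjoinRoot.mk_surjective z
  rw [← map_pow, AdjoinRoot.mk_eq_zero] at hn
  rw [AdjoinRoot.mk_eq_zero, ← modByMonic_eq_zero_iff_dvd hf]
  ext i
  rw [coeff_zero]
  refine IsReduced.eq_zero _ ?_
  rw [← mem_nilradical, nilradical_eq_sInf]
  refine Ideal.mem_sInf.2 fun {P} (hP : P.IsPrime) => ?_
  let F := FractionRing (T ⧸ P)
  let σ : T →+* F := (algebraMap (T ⧸ P) F).comp (Ideal.Quotient.mk P)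
  have hsq : Squarefree (f.map σ) := (hsep.map (f := σ)).squarefree
  have hdvd : f.map σ ∣ g.map σ := by
    have h1 : f.map σ ∣ g.map σ ^ n := by rw [← Polynomial.map_pow]; exact Polynomial.map_dvd σ hn
    rcases Nat.eq_zero_or_pos n with rfl | hn0
    · exact (isUnit_of_dvd_one (by simpa using h1)).dvd
    · exact hsq.isRadical _ _ h1
  have h0 : (g %ₘ f).map σ = 0 := by
    rw [map_modByMonic _ hf, modByMonic_eq_zero_iff_dvd (hf.map σ)]
    exact hdvd
  have h1 : σ ((g %ₘ f).coeff i) = 0 := by rw [← coeff_map, h0, coeff_zero]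
  exact Ideal.Quotient.eq_zero_iff_mem.1 ((map_eq_zero_iff _ (IsFractionRing.injective (T ⧸ P) F)).1 h1)

theorem geomRed_of_charZero {k S : Type u} [Field k] [CharZero k] [Field S] [Algebra k S] :
    Algebra.IsGeometricallyReduced k S := by
  refine ((Groth.Agent.S9634.result (k := k) (S := S)).out 0 1).1 ?_
  intro k' _ _ _ _
  let e : k ≃ₐ[k] k' := AlgEquiv.ofBijective (Algebra.ofId k k')
    ⟨(algebraMap k k').injective, IsPurelyInseparable.surjective_algebraMap_of_isSeparable k k'⟩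
  exact isReduced_of_injective _
    ((Algebra.TensorProduct.congr e.symm (AlgEquiv.refl : S ≃ₐ[k] S)).trans (Algebra.TensorProduct.lid k S)).injective

theorem ramIdx_eq {A C : Type u} [CommRing A] [IsDomain A] [IsDiscreteValuationRing A] [CommRing C] [IsDomain C] [IsLocalRing C]
    [Algebra A C] {π : A} (hπ : Irreducible π) {ϖ : C} (hϖ : maximalIdeal C = Ideal.span {ϖ}) (hϖ0 : ϖ ≠ 0) {w : C}
    (hw : IsUnit w) {e : ℕ} (he : algebraMap A C π = w * ϖ ^ e) :
    Ideal.ramificationIdx' (maximalIdeal A) (maximalIdeal C) = e := by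
  refine Ideal.ramificationIdx'_spec ?_ fun h => ?_
  · rw [hπ.maximalIdeal_eq, Ideal.map_span, Set.image_singleton, hϖ, Ideal.span_singleton_pow, Ideal.span_singleton_le_iff_mem, he]
    exact Ideal.mul_mem_left _ _ (Ideal.mem_span_singleton_self _)
  rw [hπ.maximalIdeal_eq, Ideal.map_span, Set.image_singleton, hϖ, Ideal.span_singleton_pow, Ideal.span_singleton_le_iff_mem,
    Ideal.mem_span_singleton, he] at h
  obtain ⟨c, hc⟩ := h
  rw [pow_succ, mul_comm w, mul_assoc] at hc
  have h1 : w = ϖ * c := mul_left_cancel₀ (pow_ne_zero e hϖ0) hc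
  have h2 : ϖ ∈ maximalIdeal C := hϖ ▸ Ideal.mem_span_singleton_self ϖ
  exact h2 (isUnit_of_mul_isUnit_left (h1 ▸ hw))

variable {A B K L K₁ M : Type u} [CommRing A] [IsDomain A] [IsDiscreteValuationRing A]
  [CommRing B] [IsDomain B] [IsDiscreteValuationRing B] [Algebra A B] [IsLocalHom (algebraMap A B)]
  [Field K] [Field L] [Algebra A K] [IsFractionRing A K] [Algebra B L] [IsFractionRing B L]
  [Algebra K L] [Field K₁] [Algebra K K₁] [FiniteDimensional K K₁]
  [Field M] [Algebra K M] [Algebra L M] [Algebra K₁ M] [IsScalarTower K L M] [IsScalarTower K K₁ M]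

set_option maxHeartbeats 2000000 in
theorem abhyankar (hinj : Function.Injective (algebraMap A B))
    (hA : ∀ a : A, algebraMap K L (algebraMap A K a) = algebraMap B L (algebraMap A B a))
    {π : A} (hπ : Irreducible π) {πB : B} (hπB : Irreducible πB) {u : Bˣ} {e : ℕ} (he : 0 < e)
    (hu : algebraMap A B π = u * πB ^ e) (hchar : (e : ResidueField A) ≠ 0)
    [Algebra.IsGeometricallyReduced (ResidueField A) (ResidueField B)]
    (hgen : Algebra.adjoin L (Set.range (algebraMap K₁ M)) = ⊤) (W : ValuationSubring M)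
    (hW : EtRam.Dominates B ((algebraMap L M).comp (algebraMap B L)) W)
    (hAV : ∀ a : A, algebraMap K K₁ (algebraMap A K a) ∈ W.comap (algebraMap K₁ M))
    (hdiv : letI : Algebra A (W.comap (algebraMap K₁ M)) :=
        (RingHom.codRestrict ((algebraMap K K₁).comp (algebraMap A K)) (W.comap (algebraMap K₁ M)) hAV).toAlgebra
      e ∣ Ideal.ramificationIdx' (maximalIdeal A) (maximalIdeal (W.comap (algebraMap K₁ M)))) :
    letI : Algebra (W.comap (algebraMap K₁ M)) W := (EtRam.inclOfComap W (algebraMap K₁ M)).toAlgebra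
    EtRam.IsWeaklyUnramified (W.comap (algebraMap K₁ M)) W ∧
      @Algebra.IsGeometricallyReduced (ResidueField (W.comap (algebraMap K₁ M))) (ResidueField W) _ _
        (ResidueField.map (EtRam.inclOfComap W (algebraMap K₁ M))).toAlgebra := by
  classical
  let j := algebraMap K₁ M
  let g : B →+* M := (algebraMap L M).comp (algebraMap B L)
  let V := W.comap j
  have hjA : ∀ a : A, j (algebraMap K K₁ (algebraMap A K a)) = g (algebraMap A B a) := fun a => by
    show algebraMap K₁ M _ = algebraMap L M (algebraMap B L (algebraMap A B a))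
    rw [← hA, ← IsScalarTower.algebraMap_apply K K₁ M, ← IsScalarTower.algebraMap_apply K L M]
  have hdA : EtRam.Dominates A ((algebraMap K M).comp (algebraMap A K)) W := by
    have he : ∀ a, ((algebraMap K M).comp (algebraMap A K)) a = g (algebraMap A B a) := fun a => by
      rw [← hjA, ← IsScalarTower.algebraMap_apply K K₁ M]; rfl
    exact ⟨fun a => he a ▸ hW.1 _, fun a ha => he a ▸ hW.2 _ fun hu => ha (IsUnit.of_map (algebraMap A B) a hu)⟩
  obtain ⟨x, hU, e', he', hxe⟩ := exists_unif W j (IsScalarTower.algebraMap_eq K K₁ M).symm hπ hdA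
  letI : Algebra A V := (RingHom.codRestrict ((algebraMap K K₁).comp (algebraMap A K)) V hAV).toAlgebra
  have hloc : IsLocalHom (algebraMap A V) := ⟨fun a ha => by
    by_contra hn
    have h1 := hW.2 (algebraMap A B a) fun hu => hn (IsUnit.of_map (algebraMap A B) a hu)
    have h2 := (W.valuation_eq_one_iff _).1 (ha.map (EtRam.inclOfComap W j))
    refine h1.ne ?_
    rw [← h2]
    show W.valuation (g (algebraMap A B a)) = W.valuation (j (algebraMap K K₁ (algebraMap A K a)))
    rw [hjA]⟩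
  let ιV := EtRam.inclOfComap W j
  let X₀ : V := ⟨x, (W.valuation_le_one_iff _).1 hU.lt.le⟩
  let q := W.valuation (j x)
  have hx0 : j x ≠ 0 := (_root_.map_ne_zero _).2 hU.ne
  have hmV : ∀ v : V, v ∈ maximalIdeal V → ∃ v' : V, v = X₀ * v' := fun v hv => by
    have h1 : W.valuation (j (v : K₁)) < 1 := (W.valuation_lt_one_iff (ιV v)).1 fun h => hv (isUnit_of_map_unit ιV v h)
    have h2 : W.valuation (j ((v : K₁) / x)) ≤ 1 := by
      rw [map_div₀, map_div₀]; exact div_le_one_of_le₀ (hU.le_of_lt_one h1) zero_le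
    exact ⟨⟨_, (W.valuation_le_one_iff _).1 h2⟩, Subtype.ext (by
      show (v : K₁) = x * ((v : K₁) / x)
      rw [mul_div_cancel₀ _ hU.ne])⟩
  have hxe' : W.valuation (j (algebraMap K K₁ (algebraMap A K π))) = q ^ e' := by
    show _ = W.valuation (j x) ^ e'
    rw [← hxe]; exact congrArg W.valuation (IsScalarTower.algebraMap_apply K K₁ M _).symm
  -- the unit `π / x ^ e'` and the ramification index downstairs
  let wK : K₁ := algebraMap K K₁ (algebraMap A K π) / x ^ e'
  have hwv : W.valuation (j wK) = 1 := by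
    rw [map_div₀, map_div₀, hxe', map_pow, map_pow, div_self (pow_ne_zero _ hU.val_pos.ne')]
  let wV : V := ⟨wK, (W.valuation_le_one_iff _).1 hwv.le⟩
  have hwu : IsUnit wV := isUnit_of_map_unit ιV wV ((W.valuation_eq_one_iff _).2 hwv)
  have hπV : algebraMap A V π = wV * X₀ ^ e' := Subtype.ext (by
    show algebraMap K K₁ (algebraMap A K π) = algebraMap K K₁ (algebraMap A K π) / x ^ e' * x ^ e'
    rw [div_mul_cancel₀ _ (pow_ne_zero _ hU.ne)])
  have hmax : maximalIdeal V = Ideal.span {X₀} := by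
    refine le_antisymm (fun v hv => ?_) ((Ideal.span_singleton_le_iff_mem _).2 fun hu0 => ?_)
    · obtain ⟨v', rfl⟩ := hmV v hv
      exact Ideal.mem_span_singleton.2 ⟨v', rfl⟩
    · exact hU.lt.ne ((W.valuation_eq_one_iff _).1 (hu0.map ιV))
  obtain ⟨m, hm⟩ : e ∣ e' := by
    rw [← ramIdx_eq hπ hmax (fun h0 => hU.ne (congrArg Subtype.val h0)) hwu hπV]
    exact hdiv
  have hm0 : 0 < m := Nat.pos_of_ne_zero fun h0 => by rw [hm, h0, mul_zero] at he'; exact lt_irrefl _ he'
  let P : M := g πB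
  have hgne : ∀ b : B, b ≠ 0 → g b ≠ 0 := fun b hb =>
    (_root_.map_ne_zero (algebraMap L M)).2 ((map_ne_zero_iff _ (IsFractionRing.injective B L)).2 hb)
  let t : M := P / j x ^ m
  have hte : t ^ e = j (wV : K₁) * g ((u⁻¹ : Bˣ) : B) := by
    have hg1 : g ((u⁻¹ : Bˣ) : B) = (g (u : B))⁻¹ :=
      eq_inv_of_mul_eq_one_right (by rw [← map_mul, Units.mul_inv, map_one])
    show (P / j x ^ m) ^ e = j (algebraMap K K₁ (algebraMap A K π) / x ^ e') * _
    rw [map_div₀, hjA, hu, map_mul g, map_pow g, map_pow j, hg1, div_pow, ← pow_mul, mul_comm m e, ← hm]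
    have := hgne _ u.ne_zero
    field_simp
    rfl
  have ht1 : W.valuation t = 1 := (pow_eq_one_iff_of_nonneg zero_le he.ne').1 (by
    rw [← map_pow, hte, map_mul, EtRamStepLib.valuation_eq_one_of_isUnit W hW (u⁻¹).isUnit, mul_one]
    exact hwv)
  let tW : W := ⟨t, (W.valuation_le_one_iff _).1 ht1.le⟩
  have hPv : W.valuation P = q ^ m := by
    have h1 : W.valuation t * q ^ m = W.valuation P := by
      show _ * W.valuation (j x) ^ m = _
      rw [← map_pow, ← map_mul, div_mul_cancel₀ _ (pow_ne_zero _ hx0)]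
    rw [← h1, ht1, one_mul]
  let gW : B →+* W := g.codRestrict W.toSubring hW.1
  have hlW : IsLocalHom gW := ⟨fun b hb => by
    by_contra hn
    exact ((W.valuation_lt_one_iff (gW b)).2 (hW.2 b hn)) hb⟩
  let kA := ResidueField A
  let k₁ := ResidueField V
  let kB := ResidueField B
  let kW := ResidueField W
  let _ : Algebra k₁ kW := (ResidueField.map ιV).toAlgebra
  let _ : Algebra kA kW := ((ResidueField.map ιV).comp (algebraMap kA k₁)).toAlgebra
  have : IsScalarTower kA k₁ kW := IsScalarTower.of_algebraMap_eq fun _ => rfl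
  let β : kB →ₐ[kA] kW :=
    { ResidueField.map gW with
      commutes' := fun c => by
        obtain ⟨a, rfl⟩ := residue_surjective c
        show ResidueField.map gW (residue B (algebraMap A B a)) = ResidueField.map ιV (residue V (algebraMap A V a))
        rw [ResidueField.map_residue, ResidueField.map_residue]
        exact congrArg (residue W) (Subtype.ext (hjA a).symm) }
  have : Module.Finite kA k₁ := finite_residue V fun _ => rfl
  let T := k₁ ⊗[kA] kB
  let φ : T →ₐ[k₁] kW := Algebra.TensorProduct.lift (Algebra.ofId k₁ kW) β fun _ _ => Commute.all _ _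
  have : IsReduced T := inferInstance
  have : IsArtinianRing T := by
    have : IsArtinianRing (kB ⊗[kA] k₁) := IsArtinianRing.of_finite kB _
    exact (Algebra.TensorProduct.comm kA kB k₁).toRingEquiv.surjective.isArtinianRing
      (f := (Algebra.TensorProduct.comm kA kB k₁).toRingEquiv.toRingHom)
  let _ : Algebra A W := (gW.comp (algebraMap A B)).toAlgebra
  let ψ : (V ⊗[A] B) →ₐ[A] W := Algebra.TensorProduct.lift
    ({ ιV with commutes' := fun a => Subtype.ext (hjA a) } : V →ₐ[A] W)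
    ({ gW with commutes' := fun _ => rfl } : B →ₐ[A] W) fun _ _ => Commute.all _ _
  have : TensorProduct.CompatibleSMul A kA k₁ kB := ⟨fun c m n => by
    obtain ⟨a, rfl⟩ := residue_surjective c
    rw [← ResidueField.algebraMap_eq, algebraMap_smul, algebraMap_smul, TensorProduct.smul_tmul]⟩
  let resV : V →ₐ[A] k₁ := IsScalarTower.toAlgHom A V k₁
  let resB : B →ₐ[A] kB := IsScalarTower.toAlgHom A B kB
  let e₀ : T ≃ₐ[A] (k₁ ⊗[A] kB) := Algebra.TensorProduct.equivOfCompatibleSMul A kA A k₁ kB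
  let ρ : (V ⊗[A] B) →+* T := e₀.symm.toRingEquiv.toRingHom.comp (Algebra.TensorProduct.map resV resB).toRingHom
  have hρsurj : Function.Surjective ρ := e₀.symm.surjective.comp
    (Algebra.TensorProduct.map_surjective resV resB residue_surjective residue_surjective)
  have hφρ : ∀ r, φ (ρ r) = residue W (ψ r) := fun r => by
    induction r using TensorProduct.induction_on with
    | zero => simp
    | tmul v b =>
      show φ (residue V v ⊗ₜ residue B b) = residue W (ιV v * gW b)
      rw [map_mul, Algebra.TensorProduct.lift_tmul]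
      show ResidueField.map ιV (residue V v) * ResidueField.map gW (residue B b) = _
      rw [ResidueField.map_residue, ResidueField.map_residue]
    | add r s hr hs => simp only [map_add, hr, hs]
  have hψV : ∀ (v : V) (b : B), ((ψ (v ⊗ₜ b) : W) : M) = j (v : K₁) * g b := fun v b => rfl
  -- adjoining the root
  let c₀ : V ⊗[A] B := wV ⊗ₜ ((u⁻¹ : Bˣ) : B)
  let c := ρ c₀
  have hcu : IsUnit c := by
    obtain ⟨w', hw'⟩ := hwu.exists_right_inv
    refine IsUnit.map ρ (IsUnit.of_mul_eq_one (w' ⊗ₜ[A] (u : B)) ?_)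
    rw [Algebra.TensorProduct.tmul_mul_tmul, hw', Units.inv_mul]; rfl
  obtain ⟨c', hc'⟩ := hcu.exists_right_inv
  let f : T[X] := X ^ e - C c
  have hfm : f.Monic := monic_X_pow_sub_C c he.ne'
  have hsep : f.Separable := by
    let ei : T := algebraMap kA T (e : kA)⁻¹
    have hei : (e : T) * ei = 1 := by
      rw [← map_natCast (algebraMap kA T), ← map_mul, mul_inv_cancel₀ hchar, map_one]
    obtain ⟨d, rfl⟩ : ∃ d, e = d + 1 := ⟨e - 1, by omega⟩
    rw [separable_def]
    refine ⟨-C c', C (c' * ei) * X, ?_⟩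
    show -C c' * (X ^ (d + 1) - C c) + C (c' * ei) * X * derivative (X ^ (d + 1) - C c) = 1
    rw [map_sub derivative, derivative_X_pow, derivative_C, sub_zero, Nat.add_sub_cancel]
    rw [show -C c' * (X ^ (d + 1) - C c) + C (c' * ei) * X * (C ((d + 1 : ℕ) : T) * X ^ d) =
      C c' * C c + (C ((d + 1 : ℕ) : T) * C ei - 1) * (C c' * X ^ (d + 1)) by rw [C_mul]; ring, ← C_mul, ← C_mul,
      hei, C_1, sub_self, zero_mul, add_zero, mul_comm c', hc', C_1]
  let T' := AdjoinRoot f
  let tb := residue W tW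
  have hψc : ψ c₀ = tW ^ e := Subtype.ext (by
    rw [hψV, SubmonoidClass.coe_pow]; exact hte.symm)
  have hf0 : f.eval₂ (φ : T →+* kW) tb = 0 := by
    simp only [f, eval₂_sub, eval₂_pow, eval₂_X, eval₂_C]
    show tb ^ e - φ (ρ c₀) = 0
    rw [hφρ, hψc, map_pow, sub_self]
  let φ' : T' →ₐ[k₁] kW := AdjoinRoot.liftAlgHom f φ tb hf0
  have hφ'root : φ' (AdjoinRoot.root f) = tb := AdjoinRoot.liftAlgHom_root f φ tb hf0
  have hφ'of : ∀ s : T, φ' (AdjoinRoot.of f s) = φ s := fun s => AdjoinRoot.liftAlgHom_of f φ tb hf0 s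
  have : IsReduced T' := isReduced_adjoinRoot hfm hsep
  have : Module.Finite T T' := hfm.finite_adjoinRoot
  have : IsArtinianRing T' := IsArtinianRing.of_finite T T'
  have : IsSemisimpleRing T' := IsArtinianRing.isSemisimpleRing_of_isReduced T'
  obtain ⟨f₁, hf₁, hker⟩ := IsSemisimpleRing.ideal_eq_span_idempotent (RingHom.ker φ')
  have hφf : φ' f₁ = 0 := by rw [← RingHom.mem_ker, hker]; exact Ideal.mem_span_singleton_self _
  let ψ' : (V ⊗[A] B)[X] →+* W := eval₂RingHom ψ.toRingHom tW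
  let ρ' : (V ⊗[A] B)[X] →+* T' := (AdjoinRoot.mk f).comp (mapRingHom ρ)
  have hρ'surj : Function.Surjective ρ' := AdjoinRoot.mk_surjective.comp (map_surjective ρ hρsurj)
  have hφρ' : ∀ r, φ' (ρ' r) = residue W (ψ' r) := fun r => by
    show φ' (AdjoinRoot.mk f (r.map ρ)) = residue W (eval₂ ψ.toRingHom tW r)
    rw [AdjoinRoot.liftAlgHom_mk, eval₂_map, hom_eval₂]
    exact congrArg (fun σ => eval₂ σ tb r) (RingHom.ext fun s => hφρ s)
  let XR : V ⊗[A] B := X₀ ⊗ₜ 1
  let J : Ideal (V ⊗[A] B)[X] :=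
    { carrier := {r | ∃ r', ψ' r = ψ XR * ψ' r'}
      zero_mem' := ⟨0, by simp⟩
      add_mem' := by
        rintro a b ⟨a', ha⟩ ⟨b', hb⟩
        exact ⟨a' + b', by rw [map_add, map_add, ha, hb, mul_add]⟩
      smul_mem' := by
        rintro s a ⟨a', ha⟩
        exact ⟨s * a', by rw [smul_eq_mul, map_mul, map_mul, ha]; ring⟩ }
  have hψ'C : ∀ r, ψ' (C r) = ψ r := fun r => eval₂_C _ _
  have hkerρ : ∀ r, ρ r = 0 → C r ∈ J := by
    intro r hr
    have h1 : r ∈ RingHom.ker (Algebra.TensorProduct.map resV resB) := by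
      rw [RingHom.mem_ker]
      refine e₀.symm.injective ?_
      rw [map_zero]; exact hr
    rw [Algebra.TensorProduct.map_ker resV resB residue_surjective residue_surjective] at h1
    refine (sup_le ?_ ?_ : _ ≤ J.comap C) h1
    · refine Ideal.map_le_iff_le_comap.2 fun v hv => ?_
      obtain ⟨v', rfl⟩ := hmV v ((residue_eq_zero_iff v).1 hv)
      refine ⟨C (v' ⊗ₜ 1), ?_⟩
      rw [hψ'C, hψ'C, ← map_mul]
      simp [XR]
    · refine Ideal.map_le_iff_le_comap.2 fun b hb => ?_
      have hb' : b ∈ maximalIdeal B := (residue_eq_zero_iff b).1 hb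
      rw [hπB.maximalIdeal_eq, Ideal.mem_span_singleton] at hb'
      obtain ⟨b', rfl⟩ := hb'
      obtain ⟨m', rfl⟩ : ∃ m', m = m' + 1 := ⟨m - 1, by omega⟩
      refine ⟨X * C ((X₀ ^ m') ⊗ₜ b'), ?_⟩
      rw [map_mul ψ', hψ'C, hψ'C, show ψ' X = tW from eval₂_X _ _,
        Algebra.TensorProduct.includeRight_apply]
      refine Subtype.ext ?_
      simp only [MulMemClass.coe_mul, hψV, XR, OneMemClass.coe_one, map_one, one_mul, mul_one, SubmonoidClass.coe_pow, map_pow,
        map_mul]
      show g πB * g b' = j x * (P / j x ^ (m' + 1) * (j x ^ m' * g b'))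
      rw [pow_succ]
      field_simp
      exact mul_comm _ _
  obtain ⟨εR, hεR⟩ := hρ'surj (1 - f₁)
  have hε : residue W (ψ' εR) = 1 := by rw [← hφρ', hεR, map_sub, map_one, hφf, sub_zero]
  have hεv : W.valuation (ψ' εR : M) = 1 := (W.valuation_eq_one_iff _).1 <| by
    rw [← residue_ne_zero_iff_isUnit, hε]; exact one_ne_zero
  have hXv : W.valuation ((ψ XR : W) : M) = q := by
    rw [hψV, map_one, mul_one]
  have step : ∀ r, W.valuation ((ψ' r : W) : M) < 1 → ∃ r', ψ' r * ψ' εR = ψ XR * ψ' r' := by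
    intro r hr
    have h0 : ρ' r ∈ RingHom.ker φ' := by
      rw [RingHom.mem_ker, hφρ', residue_eq_zero_iff]
      exact (W.valuation_lt_one_iff _).2 hr
    obtain ⟨s, hs⟩ := Ideal.mem_span_singleton.1 (hker ▸ h0)
    have h1 : ρ' (r * εR) = 0 := by
      rw [map_mul, hεR, hs, mul_comm f₁ s, mul_assoc, mul_sub, mul_one, hf₁.eq, sub_self, mul_zero]
    obtain ⟨Q, hQ⟩ := AdjoinRoot.mk_eq_zero.1 h1
    obtain ⟨Q₀, rfl⟩ := map_surjective ρ hρsurj Q
    let F : (V ⊗[A] B)[X] := X ^ e - C c₀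
    have hF : F.map ρ = f := by simp [F, f, c]
    have hFψ : ψ' F = 0 := by
      show eval₂ ψ.toRingHom tW F = 0
      simp only [F, eval₂_sub, eval₂_pow, eval₂_X, eval₂_C]
      exact sub_eq_zero.2 hψc.symm
    have h2 : (r * εR - F * Q₀).map ρ = 0 := by
      rw [Polynomial.map_sub, Polynomial.map_mul (p := F), hF]
      exact sub_eq_zero.2 hQ
    have h3 : r * εR - F * Q₀ ∈ J := by
      rw [as_sum_range_C_mul_X_pow (r * εR - F * Q₀)]
      refine sum_mem fun i _ => Ideal.mul_mem_right _ _ (hkerρ _ ?_)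
      rw [← coeff_map, h2, coeff_zero]
    obtain ⟨r', hr'⟩ := h3
    refine ⟨r', ?_⟩
    rw [← hr', map_sub ψ', map_mul ψ', map_mul ψ', hFψ, zero_mul, sub_zero]
  have iter : ∀ n r, W.valuation ((ψ' r : W) : M) ≤ q ^ n → ∃ r', ψ' r * ψ' εR ^ n = ψ XR ^ n * ψ' r' := by
    intro n
    induction n with
    | zero => exact fun r _ => ⟨r, by simp⟩
    | succ n ih =>
      intro r hr
      obtain ⟨r', hr'⟩ := ih r (hr.trans (pow_le_pow_of_le_one zero_le hU.lt.le (Nat.le_succ n)))
      have hv := congrArg (fun w : W => W.valuation (w : M)) hr'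
      simp only [MulMemClass.coe_mul, SubmonoidClass.coe_pow, map_mul, map_pow, hεv, hXv, one_pow, mul_one] at hv
      have hlt : W.valuation ((ψ' r' : W) : M) < 1 := by
        by_contra hge
        refine not_lt.2 hr (lt_of_lt_of_le ?_ (le_of_le_of_eq (le_mul_of_one_le_right zero_le (not_lt.1 hge)) hv.symm))
        exact pow_lt_pow_right_of_lt_one₀ hU.val_pos hU.lt (Nat.lt_succ_self n)
      obtain ⟨r'', hr''⟩ := step r' hlt
      exact ⟨r'', by rw [pow_succ, pow_succ, ← mul_assoc, hr', mul_assoc, hr'', ← mul_assoc]⟩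
  -- the extension is algebraic and spanned after clearing denominators
  have halg : ∀ z : M, IsIntegral L z := fun z => by
    have hz : z ∈ Algebra.adjoin L (Set.range (algebraMap K₁ M)) := hgen ▸ Algebra.mem_top
    induction hz using Algebra.adjoin_induction with
    | mem w hw =>
      obtain ⟨k, rfl⟩ := hw
      exact ((IsIntegral.of_finite K k).map (IsScalarTower.toAlgHom K K₁ M)).tower_top
    | algebraMap l => exact isIntegral_algebraMap
    | add a b _ _ ha hb => exact ha.add hb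
    | mul a b _ _ ha hb => exact ha.mul hb
  have hrep : ∀ z : M, ∃ (d : B) (r : (V ⊗[A] B)[X]), d ≠ 0 ∧ g d * z = ((ψ' r : W) : M) := fun z => by
    have hz : z ∈ Algebra.adjoin L (Set.range (algebraMap K₁ M)) := hgen ▸ Algebra.mem_top
    induction hz using Algebra.adjoin_induction with
    | mem w hw =>
      obtain ⟨k, rfl⟩ := hw
      obtain ⟨N, hN⟩ : ∃ N : ℕ, W.valuation (j (algebraMap K K₁ (algebraMap A K π) ^ N * k)) ≤ 1 := by
        by_cases hk : k = 0
        · exact ⟨0, by simp [hk]⟩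
        obtain ⟨i, hi⟩ := hU.gen k hk
        refine ⟨i.natAbs, ?_⟩
        rw [map_mul, map_mul, map_pow, map_pow, hxe', hi, ← pow_mul, ← zpow_natCast, ← zpow_add₀ hU.val_pos.ne']
        refine zpow_le_one₀ hU.val_pos hU.lt.le ?_
        have : (i.natAbs : ℤ) ≤ ((e' * i.natAbs : ℕ) : ℤ) := Int.ofNat_le.2 (Nat.le_mul_of_pos_left _ he')
        omega
      refine ⟨algebraMap A B π ^ N, C ((⟨_, (W.valuation_le_one_iff _).1 hN⟩ : V) ⊗ₜ (1 : B)),
        pow_ne_zero _ ((map_ne_zero_iff _ hinj).2 hπ.ne_zero), ?_⟩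
      rw [hψ'C, hψV, map_one, mul_one, map_pow, ← hjA]
      show _ = j (algebraMap K K₁ (algebraMap A K π) ^ N * k)
      rw [map_mul, map_pow]
    | algebraMap l =>
      obtain ⟨a, d, hd, rfl⟩ := IsFractionRing.div_surjective (A := B) l
      refine ⟨d, C ((1 : V) ⊗ₜ a), nonZeroDivisors.ne_zero hd, ?_⟩
      rw [hψ'C, hψV, OneMemClass.coe_one, map_one, one_mul, map_div₀]
      show g d * (g a / g d) = g a
      rw [mul_div_cancel₀ _ (hgne _ (nonZeroDivisors.ne_zero hd))]
    | add a b _ _ ha hb =>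
      obtain ⟨d, r, hd, hr⟩ := ha
      obtain ⟨d', r', hd', hr'⟩ := hb
      refine ⟨d * d', C ((1 : V) ⊗ₜ d') * r + C ((1 : V) ⊗ₜ d) * r', mul_ne_zero hd hd', ?_⟩
      simp only [map_add, map_mul, AddMemClass.coe_add, MulMemClass.coe_mul, ← hr, ← hr', hψ'C, hψV, OneMemClass.coe_one, map_one]
      ring
    | mul a b _ _ ha hb =>
      obtain ⟨d, r, hd, hr⟩ := ha
      obtain ⟨d', r', hd', hr'⟩ := hb
      refine ⟨d * d', r * r', mul_ne_zero hd hd', ?_⟩
      simp only [map_mul, MulMemClass.coe_mul, ← hr, ← hr']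
      ring
  have hgd : ∀ d : B, d ≠ 0 → ∃ (N : ℕ) (v : Bˣ), d = v * πB ^ N ∧ W.valuation (g d) = q ^ (m * N) := fun d hd => by
    obtain ⟨N, v, rfl⟩ := IsDiscreteValuationRing.eq_unit_mul_pow_irreducible hd hπB
    refine ⟨N, v, rfl, ?_⟩
    rw [map_mul g, map_mul, map_pow, map_pow, EtRamStepLib.valuation_eq_one_of_isUnit W hW v.isUnit, one_mul, pow_mul]
    exact congrArg (· ^ N) hPv
  -- values
  have hval : ∀ r, ((ψ' r : W) : M) ≠ 0 → ∃ n r', ψ' r * ψ' εR ^ n = ψ XR ^ n * ψ' r' ∧
      W.valuation ((ψ' r' : W) : M) = 1 ∧ W.valuation ((ψ' r : W) : M) = q ^ n := by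
    intro r hr
    obtain ⟨N, hN⟩ := exists_pow_le (g := algebraMap L M) W hπB hW rfl (halg _).isAlgebraic hr
    have hex : ∃ n, ¬ W.valuation ((ψ' r : W) : M) ≤ q ^ n := ⟨m * N + 1, fun h => by
      refine not_lt.2 (hN.trans h) ?_
      show q ^ (m * N + 1) < W.valuation P ^ N
      rw [hPv, ← pow_mul]
      exact pow_lt_pow_right_of_lt_one₀ hU.val_pos hU.lt (Nat.lt_succ_self _)⟩
    obtain ⟨n, hn⟩ : ∃ n, Nat.find hex = n + 1 := Nat.exists_eq_succ_of_ne_zero fun h0 => by
      have := Nat.find_spec hex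
      rw [h0, pow_zero] at this
      exact this ((W.valuation_le_one_iff _).2 (ψ' r).2)
    have hle := not_not.1 (Nat.find_min hex (show n < Nat.find hex by omega))
    have hgt := Nat.find_spec hex
    rw [hn] at hgt
    obtain ⟨r', hr'⟩ := iter n r hle
    have hv := congrArg (fun w : W => W.valuation (w : M)) hr'
    simp only [MulMemClass.coe_mul, SubmonoidClass.coe_pow, map_mul, map_pow, hεv, hXv, one_pow, mul_one] at hv
    have h1 : W.valuation ((ψ' r' : W) : M) = 1 := by
      refine le_antisymm ((W.valuation_le_one_iff _).2 (ψ' r').2) (not_lt.1 fun hlt => hgt ?_)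
      obtain ⟨r'', hr''⟩ := step r' hlt
      have hv' := congrArg (fun w : W => W.valuation (w : M)) hr''
      simp only [MulMemClass.coe_mul, map_mul, hεv, hXv, mul_one] at hv'
      rw [hv, hv', ← mul_assoc, ← pow_succ]
      exact mul_le_of_le_one_right zero_le ((W.valuation_le_one_iff _).2 (ψ' r'').2)
    exact ⟨n, r', hr', h1, by rw [hv, h1, mul_one]⟩
  have hgenW : ∀ z : M, z ≠ 0 → ∃ k : ℤ, W.valuation z = q ^ k := fun z hz => by
    obtain ⟨d, r, hd, hr⟩ := hrep z
    obtain ⟨n, r', -, -, hv⟩ := hval r (hr ▸ mul_ne_zero (hgne d hd) hz)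
    obtain ⟨N, v, -, hN⟩ := hgd d hd
    refine ⟨(n : ℤ) - (m * N : ℕ), ?_⟩
    rw [← hr, map_mul, hN] at hv
    rw [zpow_sub₀ hU.val_pos.ne', zpow_natCast, zpow_natCast, eq_div_iff (pow_ne_zero _ hU.val_pos.ne'), mul_comm]
    exact hv
  refine ⟨EtRamStepLib.weaklyUnramified_of_le W j x hU.lt fun z hz =>
    (⟨hx0, hU.lt, hgenW⟩ : ASWeakLib.Unif W (RingHom.id M) (j x)).le_of_lt_one hz, ?_⟩
  -- residues
  have htb : ∃ i : T', φ' i * tb = 1 := by
    obtain ⟨d, rfl⟩ : ∃ d, e = d + 1 := ⟨e - 1, by omega⟩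
    refine ⟨AdjoinRoot.root f ^ d * AdjoinRoot.of f c', ?_⟩
    rw [map_mul, map_pow, hφ'root, hφ'of, mul_right_comm, ← pow_succ, show tb ^ (d + 1) = φ c by
      show _ = φ (ρ c₀)
      rw [hφρ, hψc, map_pow], ← map_mul, hc', map_one]
  have hsurj : Function.Surjective φ' := by
    intro w
    obtain ⟨z, rfl⟩ := residue_surjective w
    by_cases hz : W.valuation (z : M) < 1
    · exact ⟨0, by rw [map_zero, eq_comm, residue_eq_zero_iff]; exact (W.valuation_lt_one_iff _).2 hz⟩
    have hz1 : W.valuation (z : M) = 1 := le_antisymm ((W.valuation_le_one_iff _).2 z.2) (not_lt.1 hz)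
    obtain ⟨d, r, hd, hr⟩ := hrep z
    obtain ⟨n, r', hr', -, hv⟩ := hval r (hr ▸ mul_ne_zero (hgne d hd) (fun h0 => by simp [h0] at hz1))
    obtain ⟨N, v, hdv, hN⟩ := hgd d hd
    rw [← hr, map_mul, hN, hz1, mul_one] at hv
    have hn : m * N = n := (pow_right_strictAnti₀ hU.val_pos hU.lt).injective hv
    subst hn
    have heq : gW (v : B) * tW ^ N * z * ψ' εR ^ (m * N) = ψ' r' := by
      refine Subtype.ext (mul_left_cancel₀ (pow_ne_zero (m * N) hx0) ?_)
      have h := congrArg (fun w : W => (w : M)) hr'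
      have hP : P = t * j x ^ m := (div_mul_cancel₀ _ (pow_ne_zero _ hx0)).symm
      simp only [MulMemClass.coe_mul, SubmonoidClass.coe_pow, hψV, XR, map_one, mul_one, ← hr, hdv, map_mul, map_pow] at h ⊢
      show j x ^ (m * N) * (g (v : B) * t ^ N * z * _) = _
      change g (v : B) * P ^ N * _ * _ = _ at h
      rw [hP, mul_pow, ← pow_mul] at h
      linear_combination h
    obtain ⟨i, hi⟩ := htb
    refine ⟨i ^ N * AdjoinRoot.of f (1 ⊗ₜ residue B ((v⁻¹ : Bˣ) : B)) * ρ' r', ?_⟩
    have h1 : φ (1 ⊗ₜ residue B ((v⁻¹ : Bˣ) : B)) * residue W (gW (v : B)) = 1 := by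
      rw [Algebra.TensorProduct.lift_tmul, map_one, one_mul,
        show β (residue B ((v⁻¹ : Bˣ) : B)) = residue W (gW ((v⁻¹ : Bˣ) : B)) from ResidueField.map_residue gW _,
        ← map_mul, ← map_mul gW, Units.inv_mul, map_one, map_one]
    rw [map_mul, map_mul, map_pow, hφ'of, hφρ', ← heq, map_mul, map_mul, map_mul, map_pow, map_pow, hε, one_pow, mul_one]
    calc φ' i ^ N * φ (1 ⊗ₜ residue B ((v⁻¹ : Bˣ) : B)) * (residue W (gW (v : B)) * tb ^ N * residue W z)
        = (φ' i * tb) ^ N * (φ (1 ⊗ₜ residue B ((v⁻¹ : Bˣ) : B)) * residue W (gW (v : B))) * residue W z := by ring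
      _ = residue W z := by rw [hi, h1, one_pow, one_mul, one_mul]
  -- geometric reducedness
  have : Algebra.IsGeometricallyReduced k₁ T' := by
    rw [Algebra.isGeometricallyReduced_field_iff]
    let K' := AlgebraicClosure k₁
    have : Algebra.IsAlgebraic kA K' := Algebra.IsAlgebraic.trans kA k₁ K'
    have : IsReduced (K' ⊗[k₁] T) :=
      isReduced_of_injective _ (Algebra.TensorProduct.cancelBaseChange kA k₁ k₁ K' kB).injective
    let fK := f.map (Algebra.TensorProduct.includeRight : T →ₐ[k₁] K' ⊗[k₁] T).toRingHom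
    have : IsReduced (AdjoinRoot fK) := isReduced_adjoinRoot (hfm.map _) hsep.map
    exact isReduced_of_injective _ (AdjoinRoot.tensorAlgEquiv f fK rfl).injective
  exact isGeometricallyReduced_of_idempotent φ' hsurj hf₁ hker

end SolSepLib
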