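import Groth.Agent.ASWeakLib.Unif
import Groth.Agent.EtRamStepLib.Ext
import Mathlib.LinearAlgebra.Dimension.Finite
import Mathlib.LinearAlgebra.Dimension.Free
import Mathlib.RingTheory.Algebraic.Integral

/-! Valuations of a finite extension of the fraction field of a discrete valuation ring. -/

set_option autoImplicit false
universe u

noncomputable section

namespace SolSepLib

variable {B L Ω : Type u} [CommRing B] [IsDomain B] [IsDiscreteValuationRing B] [Field L] [Algebra B L]
  [IsFractionRing B L] [Field Ω] (W : ValuationSubring Ω) {g : L →+* Ω} {π : B}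

/-- Non-zero elements of the fraction field have the values of powers of the uniformiser. -/
theorem exists_zpow (hπ : Irreducible π) (hW : EtRam.Dominates B (g.comp (algebraMap B L)) W) {l : L} (hl : l ≠ 0) :
    ∃ m : ℤ, W.valuation (g l) = W.valuation (g (algebraMap B L π)) ^ m := by
  obtain ⟨a, s, hs, rfl⟩ := IsFractionRing.div_surjective (A := B) l
  have ha : a ≠ 0 := fun h => hl (by rw [h, map_zero, zero_div])
  obtain ⟨i, u, rfl⟩ := IsDiscreteValuationRing.eq_unit_mul_pow_irreducible ha hπ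
  obtain ⟨j, w, rfl⟩ := IsDiscreteValuationRing.eq_unit_mul_pow_irreducible (nonZeroDivisors.ne_zero hs) hπ
  refine ⟨(i : ℤ) - j, ?_⟩
  have hu : ∀ c : Bˣ, W.valuation (g (algebraMap B L (c : B))) = 1 := fun c =>
    EtRamStepLib.valuation_eq_one_of_isUnit W hW c.isUnit
  have h0 : W.valuation (g (algebraMap B L π)) ≠ 0 := (_root_.map_ne_zero _).2 ((_root_.map_ne_zero _).2
    ((map_ne_zero_iff _ (IsFractionRing.injective B L)).2 hπ.ne_zero))
  simp only [map_div₀, map_mul, map_pow, hu, one_mul]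
  rw [zpow_sub₀ h0, zpow_natCast, zpow_natCast]

/-- A lower bound for the values of algebraic elements. -/
theorem exists_pow_le (hπ : Irreducible π) (hW : EtRam.Dominates B (g.comp (algebraMap B L)) W) [Algebra L Ω]
    (hg : g = algebraMap L Ω) {z : Ω} (hz : IsAlgebraic L z) (hz0 : z ≠ 0) :
    ∃ N : ℕ, W.valuation (g (algebraMap B L π)) ^ N ≤ W.valuation z := by
  let _ : Algebra B Ω := ((algebraMap L Ω).comp (algebraMap B L)).toAlgebra
  have : IsScalarTower B L Ω := IsScalarTower.of_algebraMap_eq fun _ => rfl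
  have halg : IsAlgebraic B z⁻¹ := by
    rw [IsFractionRing.isAlgebraic_iff B L Ω]
    exact hz.inv
  obtain ⟨b, hb0, hint⟩ := halg.exists_integral_multiple
  obtain ⟨N, u, rfl⟩ := IsDiscreteValuationRing.eq_unit_mul_pow_irreducible hb0 hπ
  refine ⟨N, ?_⟩
  obtain ⟨q, hq, hqz⟩ := hint
  have : IsIntegral W (((u : B) * π ^ N) • z⁻¹) := by
    refine ⟨q.map ((algebraMap B Ω).codRestrict W.toSubring fun a => by
      have := hW.1 a; rw [hg] at this; exact this), hq.map _, ?_⟩
    rw [Polynomial.eval₂_map]; exact hqz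
  obtain ⟨w, hw⟩ := IsIntegrallyClosed.isIntegral_iff.1 this
  have hle : W.valuation (((u : B) * π ^ N) • z⁻¹) ≤ 1 := (W.valuation_le_one_iff _).2 (hw ▸ w.2)
  rw [Algebra.smul_def, map_mul, map_inv₀, show algebraMap B Ω ((u : B) * π ^ N) = g (algebraMap B L ((u : B) * π ^ N)) by
    rw [hg]; rfl, map_mul, map_mul, map_mul, map_pow, map_pow, map_pow,
    show W.valuation (g (algebraMap B L (u : B))) = 1 from EtRamStepLib.valuation_eq_one_of_isUnit W hW u.isUnit, one_mul] at hle
  rw [← div_eq_mul_inv, div_le_one₀ (zero_lt_iff.2 ((_root_.map_ne_zero _).2 hz0))] at hle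
  exact hle

/-- A finite extension carries a uniformiser. -/
theorem exists_unif {K₁ : Type u} [Field K₁] [Algebra L K₁] [FiniteDimensional L K₁] (j : K₁ →+* Ω) (hj : j.comp (algebraMap L K₁) = g)
    (hπ : Irreducible π) (hW : EtRam.Dominates B (g.comp (algebraMap B L)) W) :
    ∃ x : K₁, ASWeakLib.Unif W j x ∧ ∃ e : ℕ, 0 < e ∧ W.valuation (g (algebraMap B L π)) = W.valuation (j x) ^ e := by
  classical
  set q := W.valuation (g (algebraMap B L π))
  have hq : q < 1 := hW.2 π (by rw [hπ.maximalIdeal_eq]; exact Ideal.mem_span_singleton_self π)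
  have hq0 : 0 < q := zero_lt_iff.2 ((_root_.map_ne_zero _).2 ((_root_.map_ne_zero _).2
    ((map_ne_zero_iff _ (IsFractionRing.injective B L)).2 hπ.ne_zero)))
  let v : K₁ → W.ValueGroup := fun z => W.valuation (j z)
  -- representatives with pairwise distinct values in `[q, 1)` are independent
  have hind : ∀ s : Finset K₁, (∀ z ∈ s, q ≤ v z ∧ v z < 1) → Set.InjOn v s → s.card ≤ Module.finrank L K₁ := by
    intro s hs hinj
    have hli : LinearIndependent L (fun z : s => (z : K₁)) := by
      refine Fintype.linearIndependent_iff.2 fun c hc => ?_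
      by_contra hne
      push Not at hne
      obtain ⟨z₀, hz₀⟩ := hne
      let T := Finset.univ.filter fun z : s => c z ≠ 0
      have hval : ∀ z ∈ T, ∃ m : ℤ, W.valuation (j (c z • (z : K₁))) = q ^ m * v z := by
        intro z hzT
        obtain ⟨m, hm⟩ := exists_zpow W hπ hW (Finset.mem_filter.1 hzT).2
        refine ⟨m, ?_⟩
        rw [Algebra.smul_def, map_mul, map_mul, ← RingHom.comp_apply j, hj, hm]
      choose! m hm using hval
      have hdist : ∀ z ∈ T, ∀ z' ∈ T, q ^ m z * v z = q ^ m z' * v z' → z = z' := by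
        intro z hzT z' hzT' heq
        refine Subtype.ext (hinj z.2 z'.2 ?_)
        obtain ⟨hz1, hz2⟩ := hs z z.2
        obtain ⟨hz1', hz2'⟩ := hs z' z'.2
        rcases lt_trichotomy (m z) (m z') with h | h | h
        · exfalso
          refine absurd heq (ne_of_gt ?_)
          calc q ^ m z' * v z' < q ^ m z' * 1 := mul_lt_mul_of_pos_left hz2' (zpow_pos hq0 _)
            _ ≤ q ^ (m z + 1) := by rw [mul_one]; exact zpow_le_zpow_right_of_le_one₀ hq0 hq.le (by omega)
            _ = q ^ m z * q := zpow_add_one₀ hq0.ne' _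
            _ ≤ q ^ m z * v z := mul_le_mul' le_rfl hz1
        · rw [h] at heq; exact mul_left_cancel₀ (zpow_ne_zero _ hq0.ne') heq
        · exfalso
          refine absurd heq.symm (ne_of_gt ?_)
          calc q ^ m z * v z < q ^ m z * 1 := mul_lt_mul_of_pos_left hz2 (zpow_pos hq0 _)
            _ ≤ q ^ (m z' + 1) := by rw [mul_one]; exact zpow_le_zpow_right_of_le_one₀ hq0 hq.le (by omega)
            _ = q ^ m z' * q := zpow_add_one₀ hq0.ne' _
            _ ≤ q ^ m z' * v z' := mul_le_mul' le_rfl hz1'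
      obtain ⟨z₁, hz₁, hmax⟩ := T.exists_max_image (fun z => q ^ m z * v z) ⟨z₀, Finset.mem_filter.2 ⟨Finset.mem_univ _, hz₀⟩⟩
      have hsum : W.valuation (∑ z ∈ T, j (c z • (z : K₁))) = q ^ m z₁ * v z₁ := by
        rw [← hm z₁ hz₁]
        refine Valuation.map_sum_eq_of_lt _ hz₁ fun z hz => ?_
        rw [Finset.mem_sdiff, Finset.mem_singleton] at hz
        rw [hm z hz.1, hm z₁ hz₁]
        exact lt_of_le_of_ne (hmax z hz.1) fun h => hz.2 (hdist z hz.1 z₁ hz₁ h)
      rw [← map_sum, Finset.sum_subset (Finset.subset_univ T) (fun z _ hz => by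
        simp only [T, Finset.mem_filter, Finset.mem_univ, true_and, not_not] at hz
        rw [hz, zero_smul]), hc, map_zero, map_zero] at hsum
      exact mul_ne_zero (zpow_ne_zero _ hq0.ne') (lt_of_lt_of_le hq0 (hs z₁ z₁.2).1).ne' hsum.symm
    simpa using hli.fintype_card_le_finrank
  -- a maximal value below one
  let S : Set W.ValueGroup := {y | ∃ z, v z = y ∧ q ≤ y ∧ y < 1}
  have hSfin : S.Finite := by
    by_contra hinf
    obtain ⟨T, hT, hTcard⟩ := Set.Infinite.exists_subset_card_eq hinf (Module.finrank L K₁ + 1)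
    choose! r hr1 hr2 hr3 using fun y (hy : y ∈ T) => hT hy
    have := hind (T.image r) (fun z hz => by
      obtain ⟨y, hy, rfl⟩ := Finset.mem_image.1 hz
      rw [hr1 y hy]; exact ⟨hr2 y hy, hr3 y hy⟩) (fun z hz z' hz' h => by
      obtain ⟨y, hy, rfl⟩ := Finset.mem_image.1 hz
      obtain ⟨y', hy', rfl⟩ := Finset.mem_image.1 hz'
      rw [hr1 y hy, hr1 y' hy'] at h
      rw [h])
    rw [Finset.card_image_of_injOn (fun y hy y' hy' h => by rw [← hr1 y hy, h, hr1 y' hy']), hTcard] at this
    omega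
  have hπ1 : v (algebraMap L K₁ (algebraMap B L π)) = q := congrArg W.valuation (DFunLike.congr_fun hj _)
  obtain ⟨_, ⟨x, rfl, hxq, hx1⟩, hmax⟩ := Set.exists_max_image S id hSfin ⟨q, _, hπ1, le_rfl, hq⟩
  have hx0 : x ≠ 0 := fun h => by simp [v, h] at hxq; exact hq0.ne' hxq
  have hle : ∀ z, v z < 1 → v z ≤ v x := fun z hz => by
    rcases lt_or_ge (v z) q with h | h
    · exact h.le.trans hxq
    · exact hmax _ ⟨z, rfl, h, hz⟩
  have hxpos : 0 < v x := lt_of_lt_of_le hq0 hxq
  have hM : ∃ M : ℕ, 0 < M ∧ v x ^ M < q := by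
    by_contra hall
    push Not at hall
    refine hSfin.not_infinite (Set.infinite_of_injective_forall_mem (f := fun M : ℕ => v x ^ (M + 1))
      (fun a b hab => Nat.succ_injective ((pow_right_strictAnti₀ hxpos hx1).injective hab)) fun M => ?_)
    exact ⟨x ^ (M + 1), by simp [v, map_pow], hall _ (Nat.succ_pos M), pow_lt_one₀ zero_le hx1 (Nat.succ_ne_zero M)⟩
  obtain ⟨M, hM0, hM⟩ := hM
  let _ : Algebra L Ω := g.toAlgebra
  have hgen : ∀ z, z ≠ 0 → v z ≤ 1 → ∃ n : ℕ, v z = v x ^ n := by
    intro z hz hz1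
    let ja : K₁ →ₐ[L] Ω := { j with commutes' := fun c => DFunLike.congr_fun hj c }
    obtain ⟨N, hN⟩ := exists_pow_le W hπ hW (rfl : g = algebraMap L Ω)
      (z := j z) ((IsIntegral.of_finite L z).map ja).isAlgebraic ((_root_.map_ne_zero _).2 hz)
    have hex : ∃ n : ℕ, v x ^ n < v z := by
      refine ⟨M * (N + 1), lt_of_lt_of_le ?_ hN⟩
      rw [pow_mul]
      exact lt_of_lt_of_le (pow_lt_pow_left₀ hM zero_le (Nat.succ_ne_zero N)) (pow_le_pow_of_le_one zero_le hq.le (Nat.le_succ N))
    obtain ⟨n, hn⟩ : ∃ n, Nat.find hex = n + 1 := Nat.exists_eq_succ_of_ne_zero fun h0 => by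
      have := Nat.find_spec hex
      rw [h0, pow_zero] at this
      exact not_lt.2 hz1 this
    have hlo := Nat.find_spec hex
    have hhi := not_lt.1 (Nat.find_min hex (show n < Nat.find hex by omega))
    refine ⟨n, le_antisymm hhi (not_lt.1 fun hlt => ?_)⟩
    rw [hn, pow_succ] at hlo
    have hq1 : v (z / x ^ n) < 1 := by
      show W.valuation (j _) < 1
      rw [map_div₀, map_div₀, map_pow, map_pow, div_lt_one₀ (pow_pos hxpos n)]
      exact hlt
    have := hle _ hq1
    simp only [v, map_div₀, map_pow] at this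
    rw [div_le_iff₀ (pow_pos hxpos n), mul_comm] at this
    exact not_lt.2 this hlo
  have hU : ASWeakLib.Unif W j x := by
    refine ⟨hx0, hx1, fun z hz => ?_⟩
    rcases le_total (v z) 1 with h | h
    · obtain ⟨n, hn⟩ := hgen z hz h
      exact ⟨n, by rw [zpow_natCast]; exact hn⟩
    · obtain ⟨n, hn⟩ := hgen z⁻¹ (inv_ne_zero hz) (by simp only [v, map_inv₀]; exact inv_le_one_of_one_le₀ h)
      refine ⟨-n, ?_⟩
      simp only [v, map_inv₀] at hn
      rw [zpow_neg, zpow_natCast, ← hn, inv_inv]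
  obtain ⟨e, he⟩ := hgen _ (by
    exact (_root_.map_ne_zero _).2 ((map_ne_zero_iff _ (IsFractionRing.injective B L)).2 hπ.ne_zero)) (hπ1.le.trans hq.le)
  rw [hπ1] at he
  refine ⟨x, hU, e, Nat.pos_of_ne_zero fun h0 => hq.ne ?_, he⟩
  rw [he, h0, pow_zero]

end SolSepLib
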